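import Cfsg.Agent.BlockChar.EqualDegree.Lift
import Cfsg.Agent.Blocks.NormalDefect.Reduction
import Cfsg.Agent.BlockChar.RegInner
import Cfsg.Agent.BlockThms.DefectGroup

/-!
# The centre of a block with one projective seen once by every character

The number of characters is then the order of a defect group, and a central element of the block
vanishing on the centralizer of the defect group is zero.
-/

set_option autoImplicit false

namespace Cfsg.Agent.BlockChar.EqualDegree

open scoped ComplexConjugate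
open Module Cfsg.Agent Cfsg.Agent.Blocks Cfsg.Agent.BlockChar.ResidueBlock
open Cfsg.Agent.BlockChar.Cyclic (bElt bElt_idem bElt_central centerSpace trunc coeff_trunc
  trunc_mul_of_fixed conjRep conjRep_apply Fixed resFun_zero')

universe u

attribute [local instance] Ideal.Quotient.field

set_option synthInstance.maxHeartbeats 400000
set_option maxHeartbeats 2000000

variable {G : Type u} [Group G] [Fintype G] {p : ℕ} {M : Ideal Cfsg.AlgInt}

local notation "𝕜" => Cfsg.AlgInt ⧸ M
local notation "A₀" => MonoidAlgebra (Cfsg.AlgInt ⧸ M) G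

/-- The coefficient at the identity is symmetric. -/
theorem coeff_one_mul_comm {k : Type*} [CommRing k] (x y : MonoidAlgebra k G) :
    (x * y).coeff 1 = (y * x).coeff 1 := by
  rw [coeff_mul_eq_sum, coeff_mul_eq_sum]
  refine Fintype.sum_equiv (Equiv.inv G) _ _ fun a => ?_
  simp [mul_comm]

open scoped Classical in
/-- Equal degrees, height zero and one simple module: the block has as many characters as the
defect group has elements. -/
theorem card_eq_pow (hM : Cfsg.IsPModular p M) {B : Set (Cfsg.IrrCharacter G)}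
    (hB : Cfsg.IsPBlock M B) (hl : Cfsg.blockRank p B = 1) {d : ℕ}
    (hdeg : ∀ χ ∈ B, Cfsg.charDegree ((χ : Cfsg.IrrCharacter G) : G → ℂ) = d)
    (h0 : ∀ χ ∈ B, Cfsg.blockHeight p B ((χ : Cfsg.IrrCharacter G) : G → ℂ) = 0)
    (hsing : ∀ y, p ∣ orderOf y →
      ∑ χ : Cfsg.IrrCharacter G, (if χ ∈ B then (χ : G → ℂ) y else 0) = 0) :
    Nat.card B = p ^ Cfsg.blockDefect p B := by
  obtain ⟨χ₀, hχ₀⟩ := IsPBlock.nonempty hM hB
  have h1reg : ¬ p ∣ orderOf (1 : G) := by simp [hM.1.ne_one]
  have hsame : ∀ χ ∈ B, ∀ g : G, ¬ p ∣ orderOf g →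
      ((χ : Cfsg.IrrCharacter G) : G → ℂ) g = (χ₀ : G → ℂ) g := by
    intro χ hχ g hg
    obtain ⟨⟨v, hv⟩, hv0, hspan⟩ := finrank_eq_one_iff'.1 hl
    obtain ⟨s, hs⟩ := hspan ⟨_, Submodule.subset_span ⟨χ, hχ, rfl⟩⟩
    obtain ⟨t, ht⟩ := hspan ⟨_, Submodule.subset_span ⟨χ₀, hχ₀, rfl⟩⟩
    have e : ∀ y : G, ¬ p ∣ orderOf y →
        (χ : G → ℂ) y = s * v y ∧ (χ₀ : G → ℂ) y = t * v y := fun y hy => by
      have a1 := congrFun (congrArg Subtype.val hs) y
      have a2 := congrFun (congrArg Subtype.val ht) y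
      simp only [SetLike.val_smul, Pi.smul_apply, smul_eq_mul, pRegularPart_apply, if_neg hy]
        at a1 a2
      exact ⟨a1.symm, a2.symm⟩
    obtain ⟨e1, e2⟩ := e 1 h1reg
    have hst : s = t := by
      have h : (χ : G → ℂ) 1 = (χ₀ : G → ℂ) 1 := by
        rw [(CharArith.irr_degree_spec χ).1, (CharArith.irr_degree_spec χ₀).1, hdeg χ hχ,
          hdeg χ₀ hχ₀]
      rw [e1, e2] at h
      refine mul_right_cancel₀ (fun hv1 => Char.IsIrr.one_ne_zero χ.2 ?_) h
      rw [e1, hv1, mul_zero]
    rw [(e g hg).1, (e g hg).2, hst]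
  have hk : (Nat.card B : ℂ) * regM p B χ₀ χ₀ = ((p ^ Cfsg.blockDefect p B : ℕ) : ℂ) := by
    have h1 : (Nat.card B : ℂ) * regSum p (fun w => (χ₀ : G → ℂ) w * conj ((χ₀ : G → ℂ) w)) =
        (Nat.card G : ℂ) := by
      have hin : Cfsg.classInner (∑ χ : Cfsg.IrrCharacter G,
          if χ ∈ B then (χ : G → ℂ) else 0) (χ₀ : G → ℂ) = 1 := by
        rw [Char.classInner_sum_left, Finset.sum_eq_single χ₀ (fun ψ _ hne => by
            split_ifs
            · exact Char.classInner_irr_ne ψ.2 χ₀.2 fun h => hne (Subtype.ext h)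
            · exact Char.classInner_zero_left _) (by simp),
          if_pos hχ₀, Char.classInner_irr_self χ₀.2]
      rw [Cfsg.classInner, inv_mul_eq_iff_eq_mul₀ (Nat.cast_ne_zero.2 Nat.card_pos.ne'),
        mul_one] at hin
      rw [← hin, regSum, Finset.mul_sum]
      refine Finset.sum_congr rfl fun w _ => ?_
      have e : (∑ χ : Cfsg.IrrCharacter G, if χ ∈ B then (χ : G → ℂ) else 0) w =
          ∑ χ : Cfsg.IrrCharacter G, (if χ ∈ B then (χ : G → ℂ) w else 0) := by
        rw [Finset.sum_apply]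
        exact Finset.sum_congr rfl fun χ _ => by split_ifs <;> rfl
      rw [e]
      by_cases hw : p ∣ orderOf w
      · rw [if_neg (show ¬ Cfsg.IsPRegular p w from not_not.2 hw), mul_zero, hsing w hw, zero_mul]
      · rw [if_pos (show Cfsg.IsPRegular p w from hw), Finset.sum_congr rfl fun χ _ =>
          show (if χ ∈ B then (χ : G → ℂ) w else 0) = (if χ ∈ B then (χ₀ : G → ℂ) w else 0) by
            split_ifs with hχ
            · exact hsame χ hχ w hw
            · rfl, Finset.sum_ite, Finset.sum_const_zero, add_zero, Finset.sum_const, nsmul_eq_mul,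
          Nat.card_eq_fintype_card, ← Set.toFinset_card, show B.toFinset =
            Finset.univ.filter (fun χ => χ ∈ B) by ext χ; simp]
        ring
    rw [regM, mul_left_comm, h1, div_mul_cancel₀ _ (Nat.cast_ne_zero.2 Nat.card_pos.ne')]
  obtain ⟨m, hm⟩ := exists_int_regM hM hχ₀ χ₀
  rw [hm] at hk
  have hkz : (Nat.card B : ℤ) * m = ((p ^ Cfsg.blockDefect p B : ℕ) : ℤ) := by exact_mod_cast hk
  have hmp : ¬ (p : ℤ) ∣ m := fun hd => by
    have hmem : Cfsg.MemLocalIdeal M (regM p B χ₀ χ₀) := by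
      rw [hm, memLocalIdeal_intCast_iff hM]; exact hd
    rcases (regM_memLocalIdeal_iff hM hχ₀ χ₀).1 hmem with h | h
    · exact (not_dvd_redDeg_iff hM.1 hχ₀).2 (h0 χ₀ hχ₀) h
    · exact not_memLocalIdeal_omega_regConj hM hB hχ₀ hχ₀ (h0 χ₀ hχ₀) h
  have hk2 := congrArg Int.natAbs hkz
  rw [Int.natAbs_mul, Int.natAbs_natCast, Int.natAbs_natCast] at hk2
  have hco : (p ^ Cfsg.blockDefect p B).Coprime m.natAbs :=
    (hM.1.coprime_iff_not_dvd.2 fun h => hmp (Int.natCast_dvd.2 h)).pow_left _
  have hm1 : m.natAbs = 1 :=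
    Nat.eq_one_of_dvd_coprimes hco ⟨Nat.card B, by rw [mul_comm]; exact hk2.symm⟩ dvd_rfl
  rwa [hm1, mul_one] at hk2

open scoped Classical in
/-- The class sums of an idempotent seen once by each character of the block. -/
theorem classSum_memLocalIdeal [Fact p.Prime] (hM : Cfsg.IsPModular p M)
    {B : Set (Cfsg.IrrCharacter G)} (hB : Cfsg.IsPBlock M B) {d : ℕ}
    (hdeg : ∀ χ ∈ B, Cfsg.charDegree ((χ : Cfsg.IrrCharacter G) : G → ℂ) = d)
    {f : G → ℂ} (hfR : ∀ g, Cfsg.MemLocalRing M (f g))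
    (hev : ∀ χ : Cfsg.IrrCharacter G, evC (χ : G → ℂ) f = if χ ∈ B then 1 else 0) (g : G)
    (hg : (Nat.card (Subgroup.centralizer ({g} : Set G))).factorization p <
      Cfsg.blockDefect p B) :
    Cfsg.MemLocalIdeal M (∑ x : G, if IsConj g x then f x⁻¹ else 0) := by
  set a := (Nat.card G).factorization p with ha
  set δ := (Nat.card (Subgroup.centralizer ({g} : Set G))).factorization p with hδ
  set S := ∑ x : G, if IsConj g x then f x⁻¹ else 0 with hS
  obtain ⟨χ₀, hχ₀⟩ := IsPBlock.nonempty hM hB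
  have hd0 : d ≠ 0 := by rw [← hdeg χ₀ hχ₀]; exact (CharArith.irr_degree_spec χ₀).2.ne'
  have hmin : minVal p B = d.factorization p := by
    obtain ⟨χ, hχ, h⟩ := exists_height_zero (p := p) (B := B) ⟨χ₀, hχ₀⟩
    rw [← h, hdeg χ hχ]
  have hda : d.factorization p ≤ a := by rw [← hdeg χ₀ hχ₀]; exact degree_val_le χ₀
  have hdef : Cfsg.blockDefect p B = a - d.factorization p := by rw [blockDefect_eq, hmin]
  -- the class sum
  have hScard : S * (Nat.card (Subgroup.centralizer ({g} : Set G)) : ℂ) * (d : ℂ) =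
      (Nat.card G : ℂ) * Cfsg.blockCoeff B g⁻¹ := by
    obtain ⟨I, hI⟩ : ∃ I : G → ℂ, ∀ y, I y = if IsConj g y⁻¹ then 1 else 0 := ⟨_, fun y => rfl⟩
    have hS' : S = ∑ y : G, f y * I y := by
      rw [hS]
      refine Fintype.sum_equiv (Equiv.inv G) _ _ fun x => ?_
      simp [hI]
    have hconjinv : ∀ y, IsConj g y⁻¹ ↔ IsConj g⁻¹ y := fun y => by
      constructor <;> intro h <;> obtain ⟨c, hc⟩ := isConj_iff.1 h <;>
        refine isConj_iff.2 ⟨c, ?_⟩
      · rw [← inv_inv y, ← hc]; group
      · rw [← hc]; group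
    have hexp : ∀ y, I y * (Nat.card (Subgroup.centralizer ({g} : Set G)) : ℂ) =
        ∑ χ : Cfsg.IrrCharacter G, (χ : G → ℂ) g * (χ : G → ℂ) y := by
      intro y
      have h := Char.second_orthogonality g y⁻¹
      have h' : I y * (Nat.card (Subgroup.centralizer ({g} : Set G)) : ℂ) =
          ∑ χ : Cfsg.IrrCharacter G, (χ : G → ℂ) g * conj ((χ : G → ℂ) y⁻¹) := by
        rw [h, hI]
        by_cases hy : IsConj g y⁻¹ <;> simp [hy]
      rw [h']
      refine Finset.sum_congr rfl fun χ _ => ?_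
      rw [← Char.IsChar.inv_eq_conj (Char.IsIrr.isCharacter χ.2), inv_inv]
    have hsum : S * (Nat.card (Subgroup.centralizer ({g} : Set G)) : ℂ) =
        ∑ χ : Cfsg.IrrCharacter G, if χ ∈ B then (χ : G → ℂ) g else 0 := by
      rw [hS', Finset.sum_mul]
      simp only [mul_assoc, hexp, Finset.mul_sum]
      rw [Finset.sum_comm]
      refine Finset.sum_congr rfl fun χ _ => ?_
      calc ∑ y, f y * ((χ : G → ℂ) g * (χ : G → ℂ) y)
          = (χ : G → ℂ) g * evC (χ : G → ℂ) f := by
            rw [evC, Finset.mul_sum]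
            exact Finset.sum_congr rfl fun y _ => by ring
        _ = _ := by rw [hev]; split_ifs <;> simp
    rw [hsum, blockCoeff_eq_sum B, ← mul_assoc,
      mul_inv_cancel₀ (Nat.cast_ne_zero.2 Nat.card_pos.ne'), one_mul, Finset.sum_mul]
    refine Finset.sum_congr rfl fun χ _ => ?_
    split_ifs with hχ
    · rw [← Char.IsChar.inv_eq_conj (Char.IsIrr.isCharacter χ.2), inv_inv,
        (CharArith.irr_degree_spec χ).1, hdeg χ hχ, mul_comm]
    · simp
  have hSR : Cfsg.MemLocalRing M S := (localRing hM).sum_mem fun x _ => by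
    split_ifs
    · exact hfR _
    · exact (localRing hM).zero_mem
  have hp0 : (p : ℂ) ≠ 0 := Nat.cast_ne_zero.2 hM.1.ne_zero
  have e1 := Nat.ordProj_mul_ordCompl_eq_self (Nat.card (Subgroup.centralizer ({g} : Set G))) p
  have e2 := Nat.ordProj_mul_ordCompl_eq_self d p
  have e3 := Nat.ordProj_mul_ordCompl_eq_self (Nat.card G) p
  set v := Nat.card (Subgroup.centralizer ({g} : Set G)) / p ^ δ with hv
  set w := d / p ^ d.factorization p with hw
  set t := Nat.card G / p ^ a with ht
  have hvw : ¬ Cfsg.MemLocalIdeal M ((v * w : ℕ) : ℂ) := fun h => by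
    rcases hM.1.dvd_mul.1 ((memLocalIdeal_natCast_iff hM _).1 h) with h | h
    · exact Nat.not_dvd_ordCompl hM.1 Nat.card_pos.ne' h
    · exact Nat.not_dvd_ordCompl hM.1 hd0 h
  have key : S * ((v * w : ℕ) : ℂ) = (p : ℂ) *
      ((p : ℂ) ^ (Cfsg.blockDefect p B - δ - 1) * ((t : ℂ) * Cfsg.blockCoeff B g⁻¹)) := by
    rw [← e1, ← e2, ← e3] at hScard
    push_cast at hScard ⊢
    have e4 : (p : ℂ) ^ a = (p : ℂ) ^ δ * (p : ℂ) ^ d.factorization p *
        ((p : ℂ) * (p : ℂ) ^ (Cfsg.blockDefect p B - δ - 1)) := by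
      rw [← pow_succ', ← pow_add, ← pow_add]
      congr 1
      omega
    rw [e4] at hScard
    refine mul_left_cancel₀ (mul_ne_zero (pow_ne_zero δ hp0)
      (pow_ne_zero (d.factorization p) hp0)) ?_
    calc _ = S * ((p : ℂ) ^ δ * (v : ℂ)) * ((p : ℂ) ^ d.factorization p * (w : ℂ)) := by ring
      _ = _ := hScard
      _ = _ := by ring
  have hmem : Cfsg.MemLocalIdeal M (S * ((v * w : ℕ) : ℂ)) := by
    rw [key]
    exact memLocalIdeal_mul_right hM (memLocalIdeal_natCast_self hM)
      ((localRing hM).mul_mem ((localRing hM).pow_mem (memLocalRing_natCast hM p) _)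
        ((localRing hM).mul_mem (memLocalRing_natCast hM t) (memLocalRing_blockCoeff hM hB _)))
  exact (memLocalIdeal_of_mul hM hSR (memLocalRing_natCast hM _) hmem).resolve_right hvw

open scoped Classical in
/-- A central element of the block which vanishes on the centralizer of a defect group is zero. -/
theorem eq_zero_of_trunc_eq_zero [Fact p.Prime] [M.IsMaximal] (hM : Cfsg.IsPModular p M)
    {B : Set (Cfsg.IrrCharacter G)} (hB : Cfsg.IsPBlock M B) {D : Subgroup G}
    (hD : Cfsg.IsDefectGroup p M B D) {d : ℕ}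
    (hdeg : ∀ χ ∈ B, Cfsg.charDegree ((χ : Cfsg.IrrCharacter G) : G → ℂ) = d)
    {f : G → ℂ} (hfR : ∀ g, Cfsg.MemLocalRing M (f g)) (hfid : conv f f = f)
    (hev : ∀ χ : Cfsg.IrrCharacter G, evC (χ : G → ℂ) f = if χ ∈ B then 1 else 0)
    (hann : ∀ z : A₀, (∀ y, z * y = y * z) → bElt hM B * z = z → z * res hM f = 0 → z = 0)
    {z : A₀} (hz : z ∈ centerSpace 𝕜 (bElt hM B))
    (hzD : trunc 𝕜 (Subgroup.centralizer (D : Set G)) z = 0) : z = 0 := by
  have := charP_residueField hM
  have : FiniteDimensional 𝕜 A₀ := Module.Finite.of_basis (MonoidAlgebra.basis G 𝕜)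
  set F := res hM f with hF
  have hFF : F * F = F := by rw [hF, ← res_conv hM hfR hfR, hfid]
  have hfix : ∀ (Q : Subgroup G) (x : A₀), (∀ y, x * y = y * x) → Fixed (conjRep 𝕜) Q x :=
    fun Q x hx q _ => by
      rw [conjRep_apply, ← hx, mul_assoc, ← map_mul, mul_inv_cancel, map_one, mul_one]
  -- elements vanishing on the centralizer have trace zero
  have hzero : ∀ u ∈ centerSpace 𝕜 (bElt hM B),
      trunc 𝕜 (Subgroup.centralizer (D : Set G)) u = 0 → (u * F).coeff 1 = 0 := by
    rintro u ⟨huc, hεu⟩ huD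
    have hsmall : ∀ g : G, u.coeff g ≠ 0 →
        (Nat.card (Subgroup.centralizer ({g} : Set G))).factorization p <
          Cfsg.blockDefect p B := by
      intro g hg
      by_contra hle
      push Not at hle
      obtain ⟨P, hP⟩ := DefectThms.exists_isSylC p g
      have hgP : g ∈ Subgroup.centralizer (P : Set G) := BlockThms.mem_centralizer_of_le hP.1
      have hne : trunc 𝕜 (Subgroup.centralizer (P : Set G)) (bElt hM B) ≠ 0 := by
        intro h0
        have h1 := trunc_mul_of_fixed 𝕜 hP.2.1 (hfix P _ (bElt_central hM (B := B))) (hfix P u huc)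
        rw [hεu, h0, zero_mul] at h1
        have h2 := congrArg (fun x : A₀ => x.coeff g) h1
        simp only [coeff_trunc, if_pos hgP] at h2
        exact hg (by simpa using h2)
      obtain ⟨x, hx⟩ : ∃ x, (trunc 𝕜 (Subgroup.centralizer (P : Set G)) (bElt hM B)).coeff x ≠ 0 := by
        by_contra! h
        exact hne (MonoidAlgebra.coeff_injective (Finsupp.ext h))
      rw [coeff_trunc] at hx
      split_ifs at hx with hxP
      swap
      · exact hx rfl
      have hxu : ¬ Cfsg.MemLocalIdeal M (Cfsg.blockCoeff B x) := fun h => hx (by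
        rw [bElt, coeff_res]
        exact (resFun_eq_zero_iff hM (memLocalRing_blockCoeff hM hB x)).2 h)
      have hPx : P ≤ Subgroup.centralizer ({x} : Set G) := fun q hq =>
        Subgroup.mem_centralizer_singleton_iff.2 (Subgroup.mem_centralizer_iff.1 hxP q hq)
      obtain ⟨S, hS, hPS⟩ := DefectThms.exists_le_isSylC hP.2.1 hPx
      obtain ⟨g₀, hg₀, hg₀D⟩ := DefectThms.isDefectGroup_iff.1 hD
      obtain ⟨k, hk⟩ := DefectThms.exists_conj_le_of_unit_coeff hM hB hg₀ hg₀D hxu hS
      have hPD : P.map (MulAut.conj k).toMonoidHom = D :=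
        Subgroup.eq_of_le_of_card_ge ((Subgroup.map_mono hPS).trans hk) (by
          rw [DefectThms.card_map_conj, hP.2.2, card_defectGroup hM hB hD]
          exact Nat.pow_le_pow_right hM.1.pos hle)
      have hgD : k * g * k⁻¹ ∈ Subgroup.centralizer (D : Set G) :=
        BlockThms.mem_centralizer_of_le (hPD ▸ DefectThms.map_conj_le_centralizer hP.1 k)
      have h1 := congrArg (fun x : A₀ => x.coeff (k * g * k⁻¹)) huD
      simp only [coeff_trunc, if_pos hgD] at h1
      refine hg ?_
      have h2 := congrArg (fun x : A₀ => x.coeff (k * g))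
        (huc (MonoidAlgebra.of 𝕜 G k))
      simp only [MonoidAlgebra.of_apply, MonoidAlgebra.coeff_mul_single_apply,
        MonoidAlgebra.coeff_single_mul_apply, one_mul, mul_one, inv_mul_cancel_left] at h2
      rw [← h2]
      simpa using h1
    set U := lift u with hU
    have hUR := memLocalRing_lift hM u
    have hUc : Cfsg.IsClassFunction G U := isClassFunction_lift huc
    have e : (u * F).coeff 1 = resFun hM (∑ x, U x * f x⁻¹) := by
      rw [coeff_mul_eq_sum, BlockThms.OrderP.resFun_sum hM _ fun x _ =>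
        (localRing hM).mul_mem (hUR x) (hfR _)]
      refine Finset.sum_congr rfl fun x _ => ?_
      rw [mul_one, hF, coeff_res, resFun_mul hM (hUR x) (hfR _)]
      congr 1
      conv_lhs => rw [← res_lift hM u, coeff_res]
    rw [e, resFun_eq_zero_iff hM ((localRing hM).sum_mem fun x _ =>
      (localRing hM).mul_mem (hUR x) (hfR _))]
    have : Finite (ConjClasses G) := Quotient.finite _
    have := Fintype.ofFinite (ConjClasses G)
    rw [← Finset.sum_fiberwise Finset.univ ConjClasses.mk]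
    refine memLocalIdeal_sum hM _ fun C _ => ?_
    obtain ⟨g, rfl⟩ := ConjClasses.mk_surjective C
    have e2 : ∑ x ∈ Finset.univ.filter (fun x : G => ConjClasses.mk x = ConjClasses.mk g),
        U x * f x⁻¹ = U g * ∑ x : G, if IsConj g x then f x⁻¹ else 0 := by
      rw [Finset.mul_sum, Finset.sum_filter]
      refine Finset.sum_congr rfl fun x _ => ?_
      by_cases hx : IsConj g x
      · rw [if_pos hx, if_pos (ConjClasses.mk_eq_mk_iff_isConj.2 hx.symm),
          Char.classFun_isConj hUc hx]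
      · rw [if_neg hx, if_neg fun h => hx (ConjClasses.mk_eq_mk_iff_isConj.1 h).symm, mul_zero]
    rw [e2]
    by_cases hug : u.coeff g = 0
    · refine memLocalIdeal_mul_right hM ?_ ((localRing hM).sum_mem fun x _ => by
        split_ifs
        · exact hfR _
        · exact (localRing hM).zero_mem)
      rw [← resFun_eq_zero_iff hM (hUR g), ← coeff_res, res_lift]
      exact hug
    · exact memLocalIdeal_mul_left hM (hUR g)
        (classSum_memLocalIdeal hM hB hdeg hfR hev g (hsmall g hug))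
  -- the corner is the image of the centre
  have hcorner : finrank 𝕜 (LinearMap.range (sand F F)) = Nat.card B := by
    have h := finrank_sand hM hfR hfid hfR hfid
    rw [← hF] at h
    have e : ∑ χ : Cfsg.IrrCharacter G, evC (χ : G → ℂ) f * evC (χ : G → ℂ) f =
        ((Nat.card B : ℕ) : ℂ) := by
      simp only [hev, ite_mul, one_mul, zero_mul]
      rw [Nat.card_eq_fintype_card, ← Set.toFinset_card, show B.toFinset =
        Finset.univ.filter (fun χ => χ ∈ B) by ext χ; simp, Finset.natCast_card_filter]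
      exact Finset.sum_congr rfl fun χ _ => by split_ifs <;> rfl
    rw [e] at h
    exact_mod_cast h
  have hle : (centerSpace 𝕜 (bElt hM B)).map (LinearMap.mulRight 𝕜 F) ≤
      LinearMap.range (sand F F) := by
    rintro _ ⟨w, hw, rfl⟩
    refine ⟨w, ?_⟩
    rw [sand_apply, LinearMap.mulRight_apply, ← mul_assoc, ← hw.1, mul_assoc, hFF]
  have hinj : Function.Injective
      ((LinearMap.mulRight 𝕜 F).domRestrict (centerSpace 𝕜 (bElt hM B))) :=
    (injective_iff_map_eq_zero _).2 fun w hw => Subtype.ext (hann w.1 w.2.1 w.2.2 hw)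
  have heq : (centerSpace 𝕜 (bElt hM B)).map (LinearMap.mulRight 𝕜 F) =
      LinearMap.range (sand F F) := by
    refine Submodule.eq_of_le_of_finrank_le hle ?_
    rw [hcorner, ← LinearMap.range_domRestrict, LinearMap.finrank_range_of_inj hinj]
    exact Blocks.NormalDefect.card_le_finrank_centre hM (memLocalRing_blockCoeff hM hB)
  refine hann z hz.1 hz.2 (MonoidAlgebra.coeff_injective (Finsupp.ext fun y => ?_))
  obtain ⟨w, hw, hwF⟩ : F * (MonoidAlgebra.of 𝕜 G y⁻¹ * F) ∈
      (centerSpace 𝕜 (bElt hM B)).map (LinearMap.mulRight 𝕜 F) := by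
    rw [heq]; exact ⟨_, rfl⟩
  rw [LinearMap.mulRight_apply] at hwF
  have hzw : z * w ∈ centerSpace 𝕜 (bElt hM B) :=
    ⟨fun t => by rw [mul_assoc, hw.1, ← mul_assoc, hz.1, mul_assoc],
      by rw [← mul_assoc, hz.2]⟩
  have hzwD : trunc 𝕜 (Subgroup.centralizer (D : Set G)) (z * w) = 0 := by
    rw [trunc_mul_of_fixed 𝕜 (DefectThms.isPGroup_of_isDefectGroup hD) (hfix D z hz.1) (hfix D w hw.1), hzD,
      zero_mul]
  have h := hzero _ hzw hzwD
  rw [mul_assoc, hwF] at h
  have h1 : ((z * F) * MonoidAlgebra.of 𝕜 G y⁻¹).coeff 1 = 0 := by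
    rw [← h]
    calc (z * F * MonoidAlgebra.of 𝕜 G y⁻¹).coeff 1
        = (z * F * (F * MonoidAlgebra.of 𝕜 G y⁻¹)).coeff 1 := by
          rw [← mul_assoc (z * F), mul_assoc z F F, hFF]
      _ = (F * MonoidAlgebra.of 𝕜 G y⁻¹ * (z * F)).coeff 1 := coeff_one_mul_comm _ _
      _ = (z * (F * MonoidAlgebra.of 𝕜 G y⁻¹) * F).coeff 1 := by
          rw [hz.1 (F * MonoidAlgebra.of 𝕜 G y⁻¹)]; simp only [mul_assoc]
      _ = _ := by simp only [mul_assoc]
  simp only [MonoidAlgebra.of_apply, MonoidAlgebra.coeff_mul_single_apply, inv_inv, one_mul,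
    mul_one] at h1
  simpa using h1

end Cfsg.Agent.BlockChar.EqualDegree
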