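import Cfsg.Agent.BlockChar.Cyclic.Residue
import Cfsg.Agent.CharArith.Basic
import Mathlib.Algebra.Polynomial.RingDivision
import Mathlib.FieldTheory.IsAlgClosed.Basic

/-!
# Idempotents over the local ring

An idempotent of the group algebra over the residue field lifts to an idempotent of the group
algebra over the local ring.  The value of a character at such an idempotent is a natural number
and these numbers give the dimensions of the spaces between two idempotents.
-/

set_option autoImplicit false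

namespace Cfsg.Agent.BlockChar.EqualDegree

open scoped ComplexConjugate
open Polynomial Cfsg.Agent Cfsg.Agent.Blocks Cfsg.Agent.BlockChar.ResidueBlock
open Cfsg.Agent.BlockChar.Cyclic (bElt bElt_idem)

universe u

attribute [local instance] Ideal.Quotient.field

set_option synthInstance.maxHeartbeats 400000
set_option maxHeartbeats 1000000

section Abstract

variable {R F A A' : Type*} [CommRing R] [Field F] [Ring A] [Ring A'] [Algebra R A] [Algebra F A']

/-- An element annihilated by a split polynomial over a ring whose non-units lie in the kernel of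
`π` lifts the idempotent it maps to. -/
theorem exists_idem_of_split (π : R →+* F) (hunit : ∀ r, π r ≠ 0 → IsUnit r) (ρ : A →+* A')
    (hρ : ∀ r, ρ (algebraMap R A r) = algebraMap F A' (π r)) {x : A}
    (hy : ρ x * ρ x = ρ x) (s : Multiset R)
    (hs : aeval x ((s.map fun r => X - C r).prod) = 0) :
    ∃ e : A, e * e = e ∧ ρ e = ρ x := by
  classical
  set s₀ := (0 : R) ::ₘ s.filter (fun r => π r = 0) with hs₀
  set s₁ := s.filter (fun r => ¬ π r = 0) with hs₁
  set P₀ := (s₀.map fun r => X - C r).prod with hP₀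
  set P₁ := (s₁.map fun r => X - C r).prod with hP₁
  have h01 : aeval x (P₀ * P₁) = 0 := by
    have e : P₀ * P₁ = X * (s.map fun r => X - C r).prod := by
      conv_rhs => rw [← Multiset.filter_add_not (fun r => π r = 0) s, Multiset.map_add,
        Multiset.prod_add]
      rw [hP₀, hs₀, Multiset.map_cons, Multiset.prod_cons, C_0, sub_zero, hP₁, hs₁, mul_assoc]
    rw [e, map_mul, hs, mul_zero]
  have h0 : ∀ r ∈ s₀, π r = 0 := by
    intro r hr
    rcases Multiset.mem_cons.1 hr with rfl | hr
    · exact map_zero π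
    · exact (Multiset.mem_filter.1 hr).2
  have hcop : IsCoprime P₀ P₁ := by
    have key : ∀ t₀ : Multiset R, (∀ r ∈ t₀, π r = 0) → ∀ t₁ : Multiset R,
        (∀ r ∈ t₁, π r ≠ 0) →
        IsCoprime (t₀.map fun r => X - C r).prod (t₁.map fun r => X - C r).prod := by
      intro t₀
      induction t₀ using Multiset.induction_on with
      | empty => intro _ t₁ _; simp only [Multiset.map_zero, Multiset.prod_zero]; exact isCoprime_one_left
      | cons a t₀ ih =>
        intro h t₁ h₁
        rw [Multiset.map_cons, Multiset.prod_cons]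
        refine IsCoprime.mul_left ?_ (ih (fun r hr => h r (Multiset.mem_cons_of_mem hr)) t₁ h₁)
        clear ih
        induction t₁ using Multiset.induction_on with
        | empty => simp only [Multiset.map_zero, Multiset.prod_zero]; exact isCoprime_one_right
        | cons b t₁ ih₁ =>
          rw [Multiset.map_cons, Multiset.prod_cons]
          refine IsCoprime.mul_right (isCoprime_X_sub_C_of_isUnit_sub (hunit _ ?_))
            (ih₁ fun r hr => h₁ r (Multiset.mem_cons_of_mem hr))
          rw [map_sub, h a (Multiset.mem_cons_self a t₀), zero_sub, neg_ne_zero]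
          exact h₁ b (Multiset.mem_cons_self b t₁)
    exact key s₀ h0 s₁ fun r hr => (Multiset.mem_filter.1 hr).2
  obtain ⟨u, v, huv⟩ := hcop
  have hyid : IsIdempotentElem (ρ x) := hy
  have hP₀y : ρ (aeval x P₀) = ρ x := by
    have key : ∀ t : Multiset R, (∀ r ∈ t, π r = 0) →
        ρ (aeval x (t.map fun r => X - C r).prod) = ρ x ^ Multiset.card t := by
      intro t
      induction t using Multiset.induction_on with
      | empty => intro _; simp
      | cons a t ih =>
        intro h
        rw [Multiset.map_cons, Multiset.prod_cons, map_mul, map_mul,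
          ih (fun r hr => h r (Multiset.mem_cons_of_mem hr)), map_sub, aeval_X, aeval_C,
          map_sub, hρ, h a (Multiset.mem_cons_self a t), map_zero, sub_zero, Multiset.card_cons,
          pow_succ']
    rw [hP₀, key s₀ h0, hs₀, Multiset.card_cons, hyid.pow_succ_eq]
  refine ⟨aeval x (u * P₀), ?_, ?_⟩
  · have e : u * P₀ * (u * P₀) = u * P₀ - u * v * (P₀ * P₁) := by
      linear_combination (u * P₀) * huv
    rw [← map_mul, e, map_sub, map_mul _ (u * v), h01, mul_zero, sub_zero]
  · have h1 : ρ (aeval x (u * P₀)) = ρ (aeval x u) * ρ x := by rw [map_mul, map_mul, hP₀y]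
    have h2 : ρ x = ρ x * ρ (aeval x (u * P₀)) := by
      conv_lhs => rw [← hP₀y]
      rw [← hP₀y, ← map_mul, ← map_mul]
      have e : P₀ = P₀ * (u * P₀) + v * (P₀ * P₁) := by linear_combination (-P₀) * huv
      conv_lhs => rw [e, map_add, map_mul _ v, h01, mul_zero, add_zero]
    have h3 : ρ x * ρ (aeval x (u * P₀)) = ρ (aeval x (u * P₀)) * ρ x := by
      rw [← hP₀y, ← map_mul, ← map_mul, ← map_mul, ← map_mul, mul_comm P₀]
    rw [h2, h3, h1, mul_assoc, hy]

end Abstract

variable {G : Type u} [Group G] [Fintype G] {p : ℕ} {M : Ideal Cfsg.AlgInt}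

theorem coeff_mul_eq_sum {S : Type*} [Semiring S] (x y : MonoidAlgebra S G) (z : G) :
    (x * y).coeff z = ∑ a, x.coeff a * y.coeff (a⁻¹ * z) := by
  rw [MonoidAlgebra.coeff_mul_apply_left, Finsupp.sum_fintype]
  intro a
  rw [zero_mul]

variable [M.IsMaximal] (hM : Cfsg.IsPModular p M)
include hM

/-- Idempotents over the residue field lift to idempotents over the local ring. -/
theorem exists_idem_lift {y : MonoidAlgebra (Cfsg.AlgInt ⧸ M) G} (hy : y * y = y) :
    ∃ f : G → ℂ, (∀ g, Cfsg.MemLocalRing M (f g)) ∧ conv f f = f ∧ res hM f = y := by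
  classical
  let ι : Cfsg.AlgInt →+* localRing hM :=
    { toFun := fun a => ⟨(a : ℂ), memLocalRing_coe hM a⟩
      map_one' := rfl
      map_zero' := rfl
      map_mul' := fun _ _ => rfl
      map_add' := fun _ _ => rfl }
  let x₀ : MonoidAlgebra Cfsg.AlgInt G :=
    ∑ g, MonoidAlgebra.single g (Function.surjInv Ideal.Quotient.mk_surjective (y.coeff g))
  have hx₀ : ∀ g, Ideal.Quotient.mk M (x₀.coeff g) = y.coeff g := fun g => by
    have e : x₀.coeff g = Function.surjInv Ideal.Quotient.mk_surjective (y.coeff g) := by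
      simp [x₀, MonoidAlgebra.coeff_sum, Finsupp.single_apply]
    rw [e]
    exact Function.surjInv_eq _ _
  have : Module.Finite Cfsg.AlgInt (MonoidAlgebra Cfsg.AlgInt G) :=
    Module.Finite.of_basis (MonoidAlgebra.basis G Cfsg.AlgInt)
  obtain ⟨q, hqm, hq⟩ := IsIntegral.of_finite Cfsg.AlgInt x₀
  have hroot : ∀ r ∈ (q.map (algebraMap Cfsg.AlgInt ℂ)).roots, IsIntegral ℤ r := by
    intro r hr
    have h1 : IsIntegral Cfsg.AlgInt r := ⟨q, hqm, by
      rw [← Polynomial.eval_map]
      exact (Polynomial.mem_roots'.1 hr).2⟩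
    exact isIntegral_trans r h1
  let s : Multiset (localRing hM) := (q.map (algebraMap Cfsg.AlgInt ℂ)).roots.attach.map
    fun r => ι ⟨r.1, hroot r.1 r.2⟩
  have hsplit : (s.map fun r => X - C r).prod = q.map ι := by
    refine Polynomial.map_injective (localRing hM).subtype Subtype.val_injective ?_
    rw [Polynomial.map_multiset_prod, Polynomial.map_map, Multiset.map_map]
    have e : (localRing hM).subtype.comp ι = algebraMap Cfsg.AlgInt ℂ := RingHom.ext fun a => rfl
    rw [e, Polynomial.Splits.eq_prod_roots_of_monic (IsAlgClosed.splits _) (hqm.map _)]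
    conv_rhs => rw [← Multiset.attach_map_val (q.map (algebraMap Cfsg.AlgInt ℂ)).roots]
    simp only [s, Multiset.map_map]
    congr 1
    refine Multiset.map_congr rfl fun r _ => ?_
    simp only [Function.comp_apply, Polynomial.map_sub, Polynomial.map_X, Polynomial.map_C]
    rfl
  let x := MonoidAlgebra.mapRingHom G ι x₀
  let ρ := MonoidAlgebra.mapRingHom G (residue hM)
  have hρx : ρ x = y := by
    refine MonoidAlgebra.coeff_injective (Finsupp.ext fun g => ?_)
    simp only [ρ, x, MonoidAlgebra.coeff_mapRingHom]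
    rw [← hx₀ g]
    exact residue_coe hM _
  have hs : aeval x (s.map fun r => X - C r).prod = 0 := by
    have e : (algebraMap (localRing hM) (MonoidAlgebra (localRing hM) G)).comp ι =
        (MonoidAlgebra.mapRingHom G ι).comp
          (algebraMap Cfsg.AlgInt (MonoidAlgebra Cfsg.AlgInt G)) := by
      refine RingHom.ext fun a => ?_
      simp [MonoidAlgebra.coe_algebraMap]
    rw [hsplit, aeval_def, eval₂_map, e, ← Polynomial.hom_eval₂, hq, map_zero]
  obtain ⟨e, hee, hρe⟩ := exists_idem_of_split (F := Cfsg.AlgInt ⧸ M) (residue hM)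
    (fun r hr => IsUnit.of_mul_eq_one ⟨(r : ℂ)⁻¹, memLocalRing_inv r.2
      fun h => hr ((residue_eq_zero_iff hM r).2 h)⟩ (Subtype.ext (mul_inv_cancel₀ fun h0 => hr
        ((residue_eq_zero_iff hM r).2 (h0 ▸ memLocalIdeal_zero hM)))))
    ρ (fun r => by simp [ρ, MonoidAlgebra.coe_algebraMap]) (x := x) (by rw [hρx, hy]) s hs
  refine ⟨fun g => ((e.coeff g : localRing hM) : ℂ), fun g => (e.coeff g).2, ?_, ?_⟩
  · funext z
    have h := congrArg (fun w : MonoidAlgebra (localRing hM) G => ((w.coeff z : localRing hM) : ℂ))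
      hee
    simp only [coeff_mul_eq_sum, AddSubmonoidClass.coe_finsetSum, MulMemClass.coe_mul] at h
    exact h
  · rw [← hρx, ← hρe]
    refine MonoidAlgebra.coeff_injective (Finsupp.ext fun g => ?_)
    simp only [coeff_res, ρ, MonoidAlgebra.coeff_mapRingHom, residue_apply]

omit hM

/-- The value of a function on the group algebra. -/
noncomputable def evC (χ f : G → ℂ) : ℂ := ∑ g, f g * χ g

theorem evC_idem {χ f : G → ℂ} (hχ : Cfsg.IsCharacter G χ) (hf : conv f f = f) :
    ∃ n : ℕ, evC χ f = n := by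
  obtain ⟨m, ρ, rfl⟩ := hχ
  set E : Module.End ℂ (Fin m → ℂ) := ∑ g, f g • ρ g with hE
  have hEE : E * E = E := by
    calc E * E = ∑ a, ∑ b, (f a * f b) • ρ (a * b) := by
          rw [hE, Finset.sum_mul_sum]
          exact Finset.sum_congr rfl fun a _ => Finset.sum_congr rfl fun b _ => by
            rw [smul_mul_smul_comm, map_mul]
      _ = ∑ a, ∑ z, (f a * f (a⁻¹ * z)) • ρ z := Finset.sum_congr rfl fun a _ =>
          Fintype.sum_equiv (Equiv.mulLeft a) _ _ fun b => by simp
      _ = ∑ z, conv f f z • ρ z := by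
          rw [Finset.sum_comm]
          exact Finset.sum_congr rfl fun z _ => by rw [conv, Finset.sum_smul]
      _ = E := by rw [hf]
  have hproj : LinearMap.IsProj (LinearMap.range E) E :=
    ⟨fun v => ⟨v, rfl⟩, fun v ⟨w, hw⟩ => by
      rw [← hw]; exact LinearMap.congr_fun hEE w⟩
  refine ⟨Module.finrank ℂ (LinearMap.range E), ?_⟩
  rw [← hproj.trace, hE, map_sum]
  exact Finset.sum_congr rfl fun g _ => by rw [map_smul, smul_eq_mul]; rfl

theorem evC_conv_class {χ f h : G → ℂ} (hχ : Cfsg.IsIrrCharacter G χ)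
    (hf : Cfsg.IsClassFunction G f) : evC χ (conv f h) = omega χ f * evC χ h := by
  calc evC χ (conv f h) = ∑ a, ∑ z, f a * h (a⁻¹ * z) * χ z := by
        simp only [evC, conv, Finset.sum_mul]
        exact Finset.sum_comm
    _ = ∑ a, ∑ b, f a * h b * χ (a * b) := Finset.sum_congr rfl fun a _ =>
        (Fintype.sum_equiv (Equiv.mulLeft a) _ _ fun b => by simp).symm
    _ = ∑ b, h b * ∑ a, f a * χ (a * b) := by
        rw [Finset.sum_comm]
        simp only [Finset.mul_sum]
        exact Finset.sum_congr rfl fun b _ => Finset.sum_congr rfl fun a _ => by ring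
    _ = _ := by
        simp only [BlockThms.sum_mul_char_mul hχ hf, evC, Finset.mul_sum]
        exact Finset.sum_congr rfl fun b _ => by ring

omit [Group G] in
theorem evC_sub (χ f h : G → ℂ) : evC χ (f - h) = evC χ f - evC χ h := by
  simp [evC, sub_mul, Finset.sum_sub_distrib]

/-- The map `z ↦ f z h`. -/
noncomputable def sandMap (f h : G → ℂ) : (G → ℂ) →ₗ[ℂ] (G → ℂ) where
  toFun z := conv f (conv z h)
  map_add' z z' := by
    funext w
    simp [conv, add_mul, Finset.sum_add_distrib, mul_add]
  map_smul' c z := by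
    funext w
    simp [conv, Finset.mul_sum, mul_assoc, mul_left_comm]

theorem trace_sandMap (f h : G → ℂ) :
    LinearMap.trace ℂ (G → ℂ) (sandMap f h) =
      ∑ χ : Cfsg.IrrCharacter G, evC (χ : G → ℂ) f * evC (χ : G → ℂ) h := by
  classical
  set H : G → ℂ := fun a => ∑ z, h (z⁻¹ * a⁻¹ * z) with hH
  have hHc : Cfsg.IsClassFunction G H := fun a k =>
    Fintype.sum_equiv (Equiv.mulLeft k⁻¹) _ _ fun z => by
      simp only [Equiv.coe_mulLeft]
      congr 1
      group
  have h1 : LinearMap.trace ℂ (G → ℂ) (sandMap f h) = ∑ a, f a * H a := by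
    rw [LinearMap.trace_eq_matrix_trace ℂ (Pi.basisFun ℂ G), Matrix.trace]
    have hd : ∀ z, (LinearMap.toMatrix (Pi.basisFun ℂ G) (Pi.basisFun ℂ G) (sandMap f h)).diag z =
        ∑ a, f a * h (z⁻¹ * a⁻¹ * z) := fun z => by
      rw [Matrix.diag, LinearMap.toMatrix_apply, Pi.basisFun_apply, Pi.basisFun_repr]
      show ∑ a, f a * ∑ b, (Pi.single z (1 : ℂ) : G → ℂ) b * h (b⁻¹ * (a⁻¹ * z)) = _
      refine Finset.sum_congr rfl fun a _ => ?_
      rw [Finset.sum_eq_single z (fun b _ hb => by rw [Pi.single_eq_of_ne hb, zero_mul])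
        (by simp), Pi.single_eq_same, one_mul, ← mul_assoc]
    simp only [hd, hH, Finset.mul_sum]
    exact Finset.sum_comm
  have hin : ∀ χ : Cfsg.IrrCharacter G,
      Cfsg.classInner H (χ : G → ℂ) = evC (χ : G → ℂ) h := fun χ => by
    have hχc := Char.isClassFunction_of_isIrr χ.2
    have e : ∀ z, ∑ a, h (z⁻¹ * a⁻¹ * z) * conj ((χ : G → ℂ) a) = evC (χ : G → ℂ) h := fun z =>
      Fintype.sum_equiv ((Equiv.inv G).trans (MulAut.conj z⁻¹).toEquiv) _ _ fun a => by
        rw [← Char.IsChar.inv_eq_conj (Char.IsIrr.isCharacter χ.2)]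
        have := hχc a⁻¹ z⁻¹
        simp only [inv_inv] at this
        simp [this]
    simp only [Cfsg.classInner, hH, Finset.sum_mul]
    rw [Finset.sum_comm, Finset.sum_congr rfl fun z _ => e z, Finset.sum_const, Finset.card_univ,
      nsmul_eq_mul, ← mul_assoc, ← Nat.card_eq_fintype_card,
      inv_mul_cancel₀ (Nat.cast_ne_zero.2 Nat.card_pos.ne'), one_mul]
  rw [h1]
  have hexp := Char.classFun_expansion hHc
  simp only [hin] at hexp
  calc ∑ a, f a * H a
      = ∑ a, f a * ∑ χ : Cfsg.IrrCharacter G, evC (χ : G → ℂ) h * (χ : G → ℂ) a := by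
        refine Finset.sum_congr rfl fun a _ => ?_
        conv_lhs => rw [hexp]
        simp [Finset.sum_apply]
    _ = _ := by
        simp only [Finset.mul_sum]
        rw [Finset.sum_comm]
        refine Finset.sum_congr rfl fun χ _ => ?_
        conv_rhs => rw [evC, Finset.sum_mul]
        exact Finset.sum_congr rfl fun a _ => by ring

/-- The space between two idempotents. -/
noncomputable def sand (x y : MonoidAlgebra (Cfsg.AlgInt ⧸ M) G) :
    MonoidAlgebra (Cfsg.AlgInt ⧸ M) G →ₗ[Cfsg.AlgInt ⧸ M] MonoidAlgebra (Cfsg.AlgInt ⧸ M) G :=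
  LinearMap.mulLeft (Cfsg.AlgInt ⧸ M) x ∘ₗ LinearMap.mulRight (Cfsg.AlgInt ⧸ M) y

omit [Fintype G] in
theorem sand_apply (x y z : MonoidAlgebra (Cfsg.AlgInt ⧸ M) G) :
    sand x y z = x * (z * y) := rfl

include hM

theorem finrank_sand {f h : G → ℂ} (hfR : ∀ g, Cfsg.MemLocalRing M (f g))
    (hf : conv f f = f) (hhR : ∀ g, Cfsg.MemLocalRing M (h g)) (hh : conv h h = h) :
    (Module.finrank (Cfsg.AlgInt ⧸ M) (LinearMap.range (sand (res hM f) (res hM h))) : ℂ) =
      ∑ χ : Cfsg.IrrCharacter G, evC (χ : G → ℂ) f * evC (χ : G → ℂ) h := by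
  classical
  set T := sandMap f h with hT
  set L := sand (res hM f) (res hM h) with hL
  have hTT : ∀ z, T (T z) = T z := fun z => by
    show conv f (conv (conv f (conv z h)) h) = conv f (conv z h)
    rw [← conv_assoc f (conv z h) h, ← conv_assoc z h h, hh, conv_assoc f f, hf]
  have hproj : LinearMap.IsProj (LinearMap.range T) T :=
    ⟨fun z => ⟨z, rfl⟩, fun z ⟨w, hw⟩ => by rw [← hw, hTT]⟩
  have hres : ∀ z, (∀ g, Cfsg.MemLocalRing M (T (lift z) g)) ∧ res hM (T (lift z)) = L z := fun z =>
    have h1 := memLocalRing_conv hM (memLocalRing_lift hM z) hhR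
    ⟨memLocalRing_conv hM hfR h1, by
      show res hM (conv f (conv (lift z) h)) = _
      rw [res_conv hM hfR h1, res_conv hM (memLocalRing_lift hM z) hhR, res_lift, hL, sand_apply]⟩
  have hr1 : Module.finrank (Cfsg.AlgInt ⧸ M) (LinearMap.range L) ≤
      Module.finrank ℂ (LinearMap.range T) :=
    finrank_le_of_lifts hM _ _ (by
      rintro _ ⟨z, rfl⟩
      exact ⟨T (lift z), ⟨_, rfl⟩, (hres z).1, fun g => by rw [← coeff_res, (hres z).2]⟩)
  have hr2 : Module.finrank (Cfsg.AlgInt ⧸ M) (LinearMap.ker L) ≤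
      Module.finrank ℂ (LinearMap.ker T) :=
    finrank_le_of_lifts hM _ _ (fun z hz => by
      have h1 := memLocalRing_lift hM z
      have h2 := (hres z).1
      refine ⟨lift z - T (lift z), ?_, fun g => (localRing hM).sub_mem (h1 g) (h2 g), fun g => ?_⟩
      · rw [LinearMap.mem_ker, map_sub, hTT, sub_self]
      · have h3 : resFun hM (lift z g - T (lift z) g) + resFun hM (T (lift z) g) =
            resFun hM (lift z g) := by
          rw [← resFun_add hM ((localRing hM).sub_mem (h1 g) (h2 g)) (h2 g), sub_add_cancel]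
        rw [← coeff_res hM (T (lift z)), (hres z).2, LinearMap.mem_ker.1 hz, ← coeff_res hM (lift z),
          res_lift] at h3
        simpa using h3)
  have hdim : Module.finrank (Cfsg.AlgInt ⧸ M) (MonoidAlgebra (Cfsg.AlgInt ⧸ M) G) =
      Fintype.card G := Module.finrank_eq_card_basis (MonoidAlgebra.basis G (Cfsg.AlgInt ⧸ M))
  have : FiniteDimensional (Cfsg.AlgInt ⧸ M) (MonoidAlgebra (Cfsg.AlgInt ⧸ M) G) :=
    Module.Finite.of_basis (MonoidAlgebra.basis G (Cfsg.AlgInt ⧸ M))
  have h1 := LinearMap.finrank_range_add_finrank_ker L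
  have h2 := LinearMap.finrank_range_add_finrank_ker T
  rw [Module.finrank_fintype_fun_eq_card] at h2
  rw [show Module.finrank (Cfsg.AlgInt ⧸ M) (LinearMap.range L) =
    Module.finrank ℂ (LinearMap.range T) by omega, ← hproj.trace, hT, trace_sandMap]

/-- An idempotent of the block lifts to an idempotent seen only by the block. -/
theorem exists_idem_lift_block {B : Set (Cfsg.IrrCharacter G)} (hB : Cfsg.IsPBlock M B)
    {y : MonoidAlgebra (Cfsg.AlgInt ⧸ M) G} (hy : y * y = y) (hεy : bElt hM B * y = y) :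
    ∃ (f : G → ℂ) (m : Cfsg.IrrCharacter G → ℕ), (∀ g, Cfsg.MemLocalRing M (f g)) ∧
      conv f f = f ∧ res hM f = y ∧ (∀ χ, evC ((χ : Cfsg.IrrCharacter G) : G → ℂ) f = (m χ : ℂ)) ∧
      ∀ χ, χ ∉ B → m χ = 0 := by
  classical
  obtain ⟨f₀, hR, hid, hres⟩ := exists_idem_lift hM hy
  set a := Cfsg.blockCoeff B with ha
  have haR := memLocalRing_blockCoeff hM hB
  have hac : Cfsg.IsClassFunction G a := isClassFunction_blockCoeff B
  have hcomm : conv f₀ a = conv a f₀ := by
    funext z
    refine Fintype.sum_equiv ((Equiv.inv G).trans (Equiv.mulLeft z)) _ _ fun g => ?_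
    show f₀ g * a (g⁻¹ * z) = a (z * g⁻¹) * f₀ ((z * g⁻¹)⁻¹ * z)
    rw [mul_inv_rev, inv_inv, mul_assoc, inv_mul_cancel, mul_one, mul_comm]
    congr 1
    rw [← hac (g⁻¹ * z) g]
    congr 1
    group
  have hid' : conv (conv a f₀) (conv a f₀) = conv a f₀ := by
    rw [← conv_assoc, conv_assoc f₀ a f₀, hcomm, ← conv_assoc a f₀ f₀, hid, conv_assoc, blockCoeff_conv]
  choose m hm using fun χ : Cfsg.IrrCharacter G =>
    evC_idem (Char.IsIrr.isCharacter χ.2) hid'
  refine ⟨conv a f₀, m, memLocalRing_conv hM haR hR, hid', ?_, hm, fun χ hχ => ?_⟩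
  · rw [res_conv hM haR hR, hres]
    exact hεy
  · have h := hm χ
    rw [evC_conv_class χ.2 hac, omega_blockCoeff, if_neg hχ, zero_mul] at h
    exact_mod_cast h.symm

end Cfsg.Agent.BlockChar.EqualDegree
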