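import Cfsg.Agent.BlockChar.EqualDegree.Simples
import Cfsg.Agent.BlockChar.EqualDegree.Lift
import Cfsg.Agent.BlockChar.Cyclic.Simples
import Cfsg.Agent.BlockChar.Cyclic.Rank1
import Cfsg.Agent.BlockChar.Cyclic.CornerFix
import Cfsg.Agent.BlockChar.Cyclic.Embed

/-!
# The projective columns of a block

The lifted primitive idempotents of a block give its decomposition columns; they are independent
modulo `p`, and the list of degrees is their combination by the dimensions of the simple modules.
-/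
set_option autoImplicit false

namespace Cfsg.Agent.BlockChar.EqualDegree

open Module Cfsg.Agent Cfsg.Agent.Blocks Cfsg.Agent.BlockChar.ResidueBlock
open Cfsg.Agent.BlockChar.Cyclic (bElt bElt_idem bElt_central exists_simples exists_smul_eq
  exists_idem_of_nilpotent blockRank_eq_card)
open Cfsg.Agent.BlockThms.OrderP (SimpleMod tr tr_conj trace_lsmul_eq)

universe u v w w'

attribute [local instance] Ideal.Quotient.field

set_option synthInstance.maxHeartbeats 400000
set_option maxHeartbeats 4000000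

variable {G : Type u} [Group G] [Fintype G] {p : ℕ} {M : Ideal Cfsg.AlgInt} [M.IsMaximal]

local notation "𝕜" => Cfsg.AlgInt ⧸ M
local notation "A₀" => MonoidAlgebra (Cfsg.AlgInt ⧸ M) G

open scoped Classical in
/-- The columns of a block: as many as its rank, values of idempotents, spanning all such lists,
independent modulo `p`, and combining with positive coefficients to the degrees. -/
theorem exists_columns [Fact p.Prime] (hM : Cfsg.IsPModular p M)
    {B : Set (Cfsg.IrrCharacter G)} (hB : Cfsg.IsPBlock M B) :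
    ∃ (n : ℕ) (a : Fin n → Cfsg.IrrCharacter G → ℕ),
      Cfsg.blockRank p B = n ∧ (∀ j, IsMult hM B (a j)) ∧
      (∀ v ∈ projSpan hM B, ∃ c : Fin n → ℤ, ∀ χ, v χ = ∑ j, c j * (a j χ : ℤ)) ∧
      (∀ w : Fin n → ℤ, (∀ χ, (p : ℤ) ∣ ∑ j, w j * (a j χ : ℤ)) → ∀ j, (p : ℤ) ∣ w j) ∧
      (∀ w : Fin n → ℤ, (∀ χ, ∑ j, w j * (a j χ : ℤ) = 0) → ∀ j, w j = 0) ∧
      ∃ s : Fin n → ℕ, (∀ j, 0 < s j) ∧ ∀ χ : Cfsg.IrrCharacter G,
        (if χ ∈ B then Cfsg.charDegree (χ : G → ℂ) else 0) = ∑ j, s j * a j χ := by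
  have := charP_residueField hM
  have := BlockThms.OrderP.isAlgClosed_residue (M := M)
  have : FiniteDimensional 𝕜 A₀ := Module.Finite.of_basis (MonoidAlgebra.basis G 𝕜)
  obtain ⟨n, V, hne, hall⟩ := exists_simples hM (bElt hM B)
  choose e hee hεe hrk using exists_simple_idem hM hB V hne hall
  choose f a hfR hfid hres hfa hfoff using fun j =>
    exists_idem_lift_block hM hB (hee j) (hεe j)
  have hma : ∀ j, IsMult hM B (a j) := fun j =>
    ⟨f j, hfR j, hfid j, by rw [hres, hεe], hfa j, hfoff j⟩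
  -- multiplicities and ranks
  have hpair : ∀ (F H : G → ℂ) (m m' : Cfsg.IrrCharacter G → ℕ),
      (∀ g, Cfsg.MemLocalRing M (F g)) → conv F F = F → (∀ g, Cfsg.MemLocalRing M (H g)) →
      conv H H = H → (∀ χ : Cfsg.IrrCharacter G, evC (χ : G → ℂ) F = (m χ : ℂ)) →
      (∀ χ : Cfsg.IrrCharacter G, evC (χ : G → ℂ) H = (m' χ : ℂ)) →
      ∑ χ, m χ * m' χ = Module.finrank 𝕜 (LinearMap.range (sand (res hM F) (res hM H))) := by
    intro F H m m' hFR hF hHR hH hm hm'
    have h := finrank_sand hM hFR hF hHR hH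
    simp only [hm, hm'] at h
    exact_mod_cast h.symm
  have hmult : ∀ (F : G → ℂ) (m : Cfsg.IrrCharacter G → ℕ), (∀ g, Cfsg.MemLocalRing M (F g)) →
      conv F F = F → bElt hM B * res hM F = res hM F →
      (∀ χ : Cfsg.IrrCharacter G, evC (χ : G → ℂ) F = (m χ : ℂ)) → (∀ χ, χ ∉ B → m χ = 0) →
      ∀ χ, m χ = ∑ j, actRank 𝕜 (res hM F) (V j).V * a j χ := by
    intro F m hFR hF hFε hFm hFoff
    set x := res hM F with hx
    have hxx : x * x = x := by rw [hx, ← res_conv hM hFR hFR, hF]
    set r : Fin n → ℕ := fun j => actRank 𝕜 x (V j).V with hr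
    have horth : ∀ m', IsMult hM B m' →
        ∑ χ, m χ * m' χ = ∑ χ, (∑ j, r j * a j χ) * m' χ := by
      intro m' hm'
      obtain ⟨H, hHR, hH, hHε, hHm, -⟩ := hm'
      set y := res hM H with hy
      let W : Submodule A₀ A₀ := LinearMap.range (LinearMap.toSpanSingleton A₀ A₀ y)
      have hWε : ∀ w : W, bElt hM B • w = w := by
        rintro ⟨_, z, rfl⟩
        refine Subtype.ext ?_
        show bElt hM B * (z * y) = z * y
        rw [← mul_assoc, bElt_central hM, mul_assoc, hHε]
      have hW : ∀ z : A₀, actRank 𝕜 z W = Module.finrank 𝕜 (LinearMap.range (sand z y)) := by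
        intro z
        have h : (LinearMap.range (Algebra.lsmul 𝕜 𝕜 W z : Module.End 𝕜 W)).map
            (W.subtype.restrictScalars 𝕜) = LinearMap.range (sand z y) := by
          ext t
          constructor
          · rintro ⟨_, ⟨⟨_, b, rfl⟩, rfl⟩, rfl⟩
            exact ⟨b, rfl⟩
          · rintro ⟨b, rfl⟩
            exact ⟨z • (⟨b * y, b, rfl⟩ : W), ⟨_, rfl⟩, rfl⟩
        rw [actRank, ← h]
        exact (Submodule.equivMapOfInjective _
          (Subtype.val_injective : Function.Injective (W.subtype.restrictScalars 𝕜)) _).finrank_eq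
      have hWfd : FiniteDimensional 𝕜 W :=
        inferInstanceAs (FiniteDimensional 𝕜 (W.restrictScalars 𝕜))
      have h := actRank_eq_sum hM V hall e hee (fun i j => hrk j i) hxx _ W le_rfl hWε
      rw [hW, hx, hy, ← hpair F H m m' hFR hF hHR hH hFm hHm] at h
      rw [h, Finset.sum_congr rfl fun χ _ => Finset.sum_mul _ _ _, Finset.sum_comm]
      refine Finset.sum_congr rfl fun j _ => ?_
      rw [hW, hy, ← hres j, ← hpair (f j) H (a j) m' (hfR j) (hfid j) hHR hH (hfa j) hHm,
        Finset.mul_sum]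
      exact Finset.sum_congr rfl fun χ _ => by rw [mul_assoc]
    set w : Cfsg.IrrCharacter G → ℤ := fun χ => (m χ : ℤ) - ((∑ j, r j * a j χ : ℕ) : ℤ) with hw
    have hw0 : ∀ m', IsMult hM B m' → ∑ χ, w χ * (m' χ : ℤ) = 0 := by
      intro m' hm'
      simp only [hw, sub_mul, Finset.sum_sub_distrib, sub_eq_zero]
      exact_mod_cast horth m' hm'
    have hww : ∑ χ, w χ * w χ = 0 := by
      have e1 : ∑ χ, w χ * w χ = ∑ χ, w χ * (m χ : ℤ) -
          ∑ j, (r j : ℤ) * ∑ χ, w χ * (a j χ : ℤ) := by
        conv_rhs => arg 2; simp only [Finset.mul_sum]; rw [Finset.sum_comm]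
        rw [← Finset.sum_sub_distrib]
        refine Finset.sum_congr rfl fun χ _ => ?_
        conv_lhs => arg 2; simp only [hw]
        rw [mul_sub]
        congr 1
        push_cast
        rw [Finset.mul_sum]
        exact Finset.sum_congr rfl fun j _ => by ring
      rw [e1, hw0 m ⟨F, hFR, hF, hFε, hFm, hFoff⟩, zero_sub, neg_eq_zero]
      exact Finset.sum_eq_zero fun j _ => by rw [hw0 _ (hma j), mul_zero]
    intro χ
    have h := (Finset.sum_eq_zero_iff_of_nonneg fun χ _ => mul_self_nonneg (w χ)).1 hww χ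
      (Finset.mem_univ χ)
    have h' := mul_self_eq_zero.1 h
    simp only [hw, sub_eq_zero] at h'
    exact_mod_cast h'
  have hrel : ∀ w : Fin n → ℤ, (∀ χ, (p : ℤ) ∣ ∑ j, w j * (a j χ : ℤ)) →
      ∀ T, (p : ℤ) ∣ w T := by
    intro w hw T
    set F : G → ℂ := fun g => ∑ j, (w j : ℂ) * f j g with hF
    set φ : G → ℂ := fun g =>
      ((Function.surjInv Ideal.Quotient.mk_surjective (tr M (V T).V (pPrimePartOf p g)) : Cfsg.AlgInt) : ℂ)
      with hφ
    have hφc : Cfsg.IsClassFunction G φ := fun g c => by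
      simp only [hφ, BlockThms.OrderP.pPrimePartOf_conj', tr_conj]
    have hφR : ∀ g, Cfsg.MemLocalRing M (φ g) := fun g => memLocalRing_coe hM _
    have hφp : ∀ g, φ g = φ (pPrimePartOf p g) := fun g => by
      simp only [hφ]
      rw [BlockThms.OrderP.pPrimePartOf_self (not_dvd_orderOf_pPrimePartOf Fact.out g)]
    have hev : ∀ χ : Cfsg.IrrCharacter G,
        Cfsg.MemLocalIdeal M (∑ g, F g * (χ : G → ℂ) g) := fun χ => by
      refine Eq.mpr (congrArg (Cfsg.MemLocalIdeal M) ?_)
        ((memLocalIdeal_intCast_iff hM _).2 (hw χ))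
      calc ∑ g, F g * (χ : G → ℂ) g = ∑ j, (w j : ℂ) * evC (χ : G → ℂ) (f j) := by
            simp only [hF, evC, Finset.sum_mul, Finset.mul_sum]
            rw [Finset.sum_comm]
            exact Finset.sum_congr rfl fun j _ => Finset.sum_congr rfl fun g _ => by ring
        _ = ((∑ j, w j * (a j χ : ℤ) : ℤ) : ℂ) := by
            push_cast
            exact Finset.sum_congr rfl fun j _ => by rw [hfa]
    have h0 : Cfsg.MemLocalIdeal M (∑ g, F g * φ g) := by
      rw [Char.classFun_expansion hφc]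
      simp only [Finset.sum_apply, Pi.smul_apply, smul_eq_mul, Finset.mul_sum]
      rw [Finset.sum_comm]
      refine memLocalIdeal_sum hM _ fun χ _ => ?_
      simp only [mul_left_comm (F _), ← Finset.mul_sum]
      exact memLocalIdeal_mul_left hM
        (BlockThms.OrderP.memLocalRing_classInner_pPrime hM hφc hφR hφp
          (Char.IsIrr.isCharacter χ.2)) (hev χ)
    have hwR : ∀ j, Cfsg.MemLocalRing M (w j : ℂ) := fun j =>
      memLocalRing_of_isIntegral hM (Blocks.isIntegral_intCast _)
    have hFR : ∀ g, Cfsg.MemLocalRing M (F g) := fun g =>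
      (localRing hM).sum_mem fun j _ => (localRing hM).mul_mem (hwR j) (hfR j g)
    have hint : ∀ j, resFun hM (w j : ℂ) = (w j : 𝕜) := fun j => by
      have h := resFun_coe hM (w j : Cfsg.AlgInt)
      rw [map_intCast] at h
      simpa using h
    have h1 : resFun hM (∑ g, F g * φ g) = (w T : 𝕜) := by
      calc resFun hM (∑ g, F g * φ g) = ∑ g, resFun hM (F g) * tr M (V T).V g := by
            rw [BlockThms.OrderP.resFun_sum hM _ fun g _ =>
              (localRing hM).mul_mem (hFR g) (memLocalRing_coe hM _)]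
            refine Finset.sum_congr rfl fun g _ => ?_
            rw [resFun_mul hM (hFR g) (memLocalRing_coe hM _), resFun_coe,
              Function.surjInv_eq Ideal.Quotient.mk_surjective,
              ← BlockThms.OrderP.tr_pPrimePartOf (p := p) hM g]
        _ = ∑ j, (w j : 𝕜) * ∑ g, (e j).coeff g * tr M (V T).V g := by
            simp only [Finset.mul_sum]
            rw [Finset.sum_comm]
            refine Finset.sum_congr rfl fun g _ => ?_
            rw [hF, BlockThms.OrderP.resFun_sum hM _ fun j _ =>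
              (localRing hM).mul_mem (hwR j) (hfR j g), Finset.sum_mul]
            refine Finset.sum_congr rfl fun j _ => ?_
            rw [resFun_mul hM (hwR j) (hfR j g), hint, ← hres j, coeff_res, mul_assoc]
        _ = _ := by
            simp only [← trace_lsmul_eq, trace_lsmul_idem 𝕜 (hee _), hrk, Nat.cast_ite,
              Nat.cast_one, Nat.cast_zero, mul_ite, mul_one, mul_zero, Finset.sum_ite_eq,
              Finset.mem_univ, if_true]
    rw [(resFun_eq_zero_iff hM ((localRing hM).sum_mem fun g _ =>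
      (localRing hM).mul_mem (hFR g) (hφR g))).2 h0] at h1
    rw [← CharP.intCast_eq_zero_iff 𝕜 p]
    exact h1.symm
  have hind : ∀ w : Fin n → ℤ, (∀ χ, ∑ j, w j * (a j χ : ℤ) = 0) → ∀ T, w T = 0 := by
    have key : ∀ (k : ℕ) (w : Fin n → ℤ), (∀ χ, ∑ j, w j * (a j χ : ℤ) = 0) →
        ∀ T, (p : ℤ) ^ k ∣ w T := by
      intro k
      induction k with
      | zero => intro w _ T; simp
      | succ k ih =>
        intro w hw T
        choose w' hw' using hrel w fun χ => ⟨0, by rw [hw χ, mul_zero]⟩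
        have h : ∀ χ, ∑ j, w' j * (a j χ : ℤ) = 0 := fun χ => by
          have := hw χ
          simp only [hw', mul_assoc, ← Finset.mul_sum] at this
          exact (mul_eq_zero.1 this).resolve_left (Nat.cast_ne_zero.2 (Fact.out : p.Prime).ne_zero)
        rw [hw' T, pow_succ']
        exact mul_dvd_mul_left _ (ih w' h T)
    intro w hw T
    by_contra hne
    have h := Int.natAbs_dvd_natAbs.2 (key (w T).natAbs w hw T)
    rw [Int.natAbs_pow, Int.natAbs_natCast] at h
    exact absurd (Nat.le_of_dvd (Int.natAbs_pos.2 hne) h)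
      (not_le.2 (Nat.lt_pow_self (Fact.out : p.Prime).one_lt))
  have hspan : ∀ v ∈ projSpan hM B, ∃ c : Fin n → ℤ, ∀ χ, v χ = ∑ j, c j * (a j χ : ℤ) := by
    intro v hv
    induction hv using AddSubgroup.closure_induction with
    | mem v hv =>
      obtain ⟨m, ⟨F, h1, h2, h3, h4, h5⟩, rfl⟩ := hv
      exact ⟨fun j => (actRank 𝕜 (res hM F) (V j).V : ℤ),
        fun χ => by show (m χ : ℤ) = _; rw [hmult F m h1 h2 h3 h4 h5 χ]; push_cast; rfl⟩
    | zero => exact ⟨0, fun χ => by simp⟩
    | add u v _ _ hu hv =>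
      obtain ⟨c, hc⟩ := hu
      obtain ⟨c', hc'⟩ := hv
      exact ⟨c + c', fun χ => by simp [hc χ, hc' χ, add_mul, Finset.sum_add_distrib]⟩
    | neg u _ hu =>
      obtain ⟨c, hc⟩ := hu
      exact ⟨-c, fun χ => by simp [hc χ]⟩
  have hεev : ∀ χ : Cfsg.IrrCharacter G, evC (χ : G → ℂ) (Cfsg.blockCoeff B) =
      ((if χ ∈ B then Cfsg.charDegree (χ : G → ℂ) else 0 : ℕ) : ℂ) := fun χ => by
    have h1 : evC (χ : G → ℂ) (Cfsg.blockCoeff B) =
        omega (χ : G → ℂ) (Cfsg.blockCoeff B) * (χ : G → ℂ) 1 := by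
      rw [omega, div_mul_cancel₀ _ (Char.IsIrr.one_ne_zero χ.2)]
      rfl
    rw [h1, omega_blockCoeff]
    by_cases hχ : χ ∈ B
    · rw [if_pos hχ, if_pos hχ, one_mul, (CharArith.irr_degree_spec χ).1]
    · rw [if_neg hχ, if_neg hχ, zero_mul, Nat.cast_zero]
  refine ⟨n, a, blockRank_eq_card hM hB V hne hall, hma, hspan, hrel, hind,
    fun j => Module.finrank 𝕜 (V j).V, fun j => ?_, ?_⟩
  · have : Nontrivial (V j).V := IsSimpleModule.nontrivial A₀ _
    exact Module.finrank_pos
  have hfull := hmult (Cfsg.blockCoeff B) _ (memLocalRing_blockCoeff hM hB) (blockCoeff_conv B)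
    (bElt_idem hM hB) hεev fun χ hχ => if_neg hχ
  have hid : ∀ j, actRank 𝕜 (res hM (Cfsg.blockCoeff B)) (V j).V =
      Module.finrank 𝕜 (V j).V := fun j => by
    rw [actRank, show (Algebra.lsmul 𝕜 𝕜 (V j).V (res hM (Cfsg.blockCoeff B)) :
      Module.End 𝕜 (V j).V) = LinearMap.id from LinearMap.ext (V j).fix, LinearMap.range_id,
      finrank_top]
  simp only [hid] at hfull
  exact hfull

end Cfsg.Agent.BlockChar.EqualDegree
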