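import Cfsg.Agent.BlockChar.EqualDegree.Simples
import Cfsg.Agent.BlockChar.Support
import Cfsg.Agent.Char.Brauer
import Cfsg.Agent.Char.Artin

/-!
# With one degree the constant list is virtually projective

The sum of the characters of the block then vanishes off the p-regular elements, and Brauer
induction writes the constant list through idempotents of linear characters of p'-subgroups.
-/

set_option autoImplicit false

namespace Cfsg.Agent.BlockChar.EqualDegree

open scoped ComplexConjugate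
open Cfsg.Agent Cfsg.Agent.Blocks Cfsg.Agent.BlockChar.ResidueBlock
open Cfsg.Agent.BlockChar.Cyclic (bElt bElt_idem)

universe u

attribute [local instance] Ideal.Quotient.field

set_option synthInstance.maxHeartbeats 400000
set_option maxHeartbeats 2000000

variable {G : Type u} [Group G] [Fintype G] {p : ℕ} {M : Ideal Cfsg.AlgInt}

theorem conv_class_comm {a : G → ℂ} (ha : Cfsg.IsClassFunction G a) (f : G → ℂ) :
    conv f a = conv a f := by
  funext z
  refine Fintype.sum_equiv ((Equiv.inv G).trans (Equiv.mulLeft z)) _ _ fun g => ?_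
  show f g * a (g⁻¹ * z) = a (z * g⁻¹) * f ((z * g⁻¹)⁻¹ * z)
  rw [mul_inv_rev, inv_inv, mul_assoc, inv_mul_cancel, mul_one, mul_comm]
  congr 1
  rw [← ha (g⁻¹ * z) g]
  congr 1
  group

variable [M.IsMaximal] (hM : Cfsg.IsPModular p M)
include hM

theorem eq_zero_of_mem_projSpan {B : Set (Cfsg.IrrCharacter G)} {v : Cfsg.IrrCharacter G → ℤ}
    (hv : v ∈ projSpan hM B) {χ : Cfsg.IrrCharacter G} (hχ : χ ∉ B) : v χ = 0 := by
  induction hv using AddSubgroup.closure_induction with
  | mem v hv =>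
    obtain ⟨m, ⟨F, -, -, -, -, hoff⟩, rfl⟩ := hv
    show (m χ : ℤ) = 0
    rw [hoff χ hχ, Nat.cast_zero]
  | zero => rfl
  | add u v _ _ hu hv => rw [Pi.add_apply, hu, hv, add_zero]
  | neg u _ hu => rw [Pi.neg_apply, hu, neg_zero]

open scoped Classical in
/-- A linear character of a p'-subgroup gives an idempotent of the block. -/
theorem exists_isMult_linear {B : Set (Cfsg.IrrCharacter G)} (hB : Cfsg.IsPBlock M B)
    {L : Type u} [Group L] [Fintype L] (φ : L →* G)
    (hL : ¬ p ∣ Nat.card L) (μ : L →* ℂˣ) :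
    ∃ m, IsMult hM B m ∧ ∀ χ ∈ B, (m χ : ℂ) =
      Cfsg.classInner (fun l => (μ l : ℂ)) (fun l => ((χ : Cfsg.IrrCharacter G) : G → ℂ) (φ l)) := by
  obtain ⟨c, hc⟩ : ∃ c : L → ℂ, ∀ l, c l = (μ l⁻¹ : ℂ) * (Nat.card L : ℂ)⁻¹ := ⟨_, fun l => rfl⟩
  obtain ⟨f₀, hf₀⟩ : ∃ f₀ : G → ℂ, ∀ g, f₀ g = ∑ l, if φ l = g then c l else 0 :=
    ⟨_, fun g => rfl⟩
  have hLn : (Nat.card L : ℂ) ≠ 0 := Nat.cast_ne_zero.2 Nat.card_pos.ne'
  have hinv : Cfsg.MemLocalRing M (Nat.card L : ℂ)⁻¹ :=
    memLocalRing_inv (memLocalRing_natCast hM _) fun h => hL ((memLocalIdeal_natCast_iff hM _).1 h)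
  have hcR : ∀ l, Cfsg.MemLocalRing M (c l) := fun l => by
    rw [hc]
    refine (localRing hM).mul_mem (memLocalRing_of_isIntegral hM ?_) hinv
    refine isIntegral_of_pow_eq_one (n := Nat.card L) Nat.card_pos ?_
    rw [← Units.val_pow_eq_pow_val, ← map_pow, pow_card_eq_one', map_one, Units.val_one]
  have hR : ∀ g, Cfsg.MemLocalRing M (f₀ g) := fun g => by
    rw [hf₀]
    refine (localRing hM).sum_mem fun l _ => ?_
    split_ifs
    · exact hcR l
    · exact (localRing hM).zero_mem
  have hsum : ∀ F : G → ℂ, ∑ g, f₀ g * F g = ∑ l, c l * F (φ l) := fun F => by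
    simp only [hf₀, Finset.sum_mul]
    rw [Finset.sum_comm]
    exact Finset.sum_congr rfl fun l _ => by simp [ite_mul]
  have hcc : ∀ l n, c l * c (l⁻¹ * n) = (Nat.card L : ℂ)⁻¹ * c n := fun l n => by
    have e : (μ l⁻¹ : ℂ) * (μ (l⁻¹ * n)⁻¹ : ℂ) = (μ n⁻¹ : ℂ) := by
      rw [mul_comm, ← Units.val_mul, ← map_mul, mul_inv_rev, inv_inv, mul_assoc, mul_inv_cancel,
        mul_one]
    rw [hc, hc, hc, ← e]
    ring
  have hid : conv f₀ f₀ = f₀ := by
    funext z
    calc conv f₀ f₀ z = ∑ l, c l * f₀ ((φ l)⁻¹ * z) := hsum fun g => f₀ (g⁻¹ * z)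
      _ = ∑ l, ∑ n, if φ n = z then c l * c (l⁻¹ * n) else 0 := by
          refine Finset.sum_congr rfl fun l _ => ?_
          rw [hf₀, Finset.mul_sum]
          refine (Fintype.sum_equiv (Equiv.mulLeft l⁻¹) _ _ fun n => ?_).symm
          simp only [Equiv.coe_mulLeft, map_mul, map_inv, mul_ite, mul_zero, mul_right_inj]
      _ = ∑ n, ∑ l : L, if φ n = z then (Nat.card L : ℂ)⁻¹ * c n else 0 := by
          rw [Finset.sum_comm]
          simp only [hcc]
      _ = f₀ z := by
          rw [hf₀]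
          refine Finset.sum_congr rfl fun n _ => ?_
          rw [Finset.sum_const, Finset.card_univ, ← Nat.card_eq_fintype_card, nsmul_eq_mul, mul_ite,
            mul_zero, ← mul_assoc, mul_inv_cancel₀ hLn, one_mul]
  set a := Cfsg.blockCoeff B with ha
  have haR := memLocalRing_blockCoeff hM hB
  have hac : Cfsg.IsClassFunction G a := isClassFunction_blockCoeff B
  have hid' : conv (conv a f₀) (conv a f₀) = conv a f₀ := by
    rw [← conv_assoc, conv_assoc f₀ a f₀, conv_class_comm hac, ← conv_assoc a f₀ f₀, hid,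
      conv_assoc, blockCoeff_conv]
  choose m hm using fun χ : Cfsg.IrrCharacter G => evC_idem (Char.IsIrr.isCharacter χ.2) hid'
  have hmχ : ∀ χ : Cfsg.IrrCharacter G,
      (m χ : ℂ) = (if χ ∈ B then 1 else 0) * evC (χ : G → ℂ) f₀ := fun χ => by
    rw [← hm χ, evC_conv_class χ.2 hac, omega_blockCoeff]
  refine ⟨m, ⟨conv a f₀, memLocalRing_conv hM haR hR, hid', ?_, hm, fun χ hχ => ?_⟩,
    fun χ hχ => ?_⟩
  · rw [res_conv hM haR hR, ← mul_assoc]
    exact congrArg (· * res hM f₀) (bElt_idem hM hB)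
  · have h := hmχ χ
    rw [if_neg hχ, zero_mul] at h
    exact_mod_cast h
  · rw [hmχ χ, if_pos hχ, one_mul, evC, hsum, Cfsg.classInner, Finset.mul_sum]
    refine Fintype.sum_equiv (Equiv.inv L) _ _ fun l => ?_
    simp only [Equiv.inv_apply, map_inv φ, hc,
      ← Char.IsChar.inv_eq_conj (Char.IsIrr.isCharacter χ.2), inv_inv]
    ring

open scoped Classical in
/-- A list supported on the block whose combination of characters vanishes off the p-regular
elements is virtually projective. -/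
theorem mem_projSpan_of_vanishing [Fact p.Prime] {B : Set (Cfsg.IrrCharacter G)}
    (hB : Cfsg.IsPBlock M B) (w : Cfsg.IrrCharacter G → ℕ) (hwB : ∀ χ, χ ∉ B → w χ = 0)
    (hw : ∀ y, p ∣ orderOf y →
      ∑ χ : Cfsg.IrrCharacter G, (w χ : ℂ) * (χ : G → ℂ) y = 0) :
    (fun χ : Cfsg.IrrCharacter G => (w χ : ℤ)) ∈ projSpan hM B := by
  obtain ⟨Φ, hΦ⟩ : ∃ Φ : G → ℂ,
      Φ = ∑ χ : Cfsg.IrrCharacter G, (w χ : ℂ) • (χ : G → ℂ) := ⟨_, rfl⟩
  have hΦchar : Cfsg.IsCharacter G Φ := by
    rw [hΦ]
    exact Char.isCharacter_sum _ _ fun χ _ =>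
      Char.isCharacter_natCast_smul _ (Char.IsIrr.isCharacter χ.2)
  have hΦ0 : ∀ y, p ∣ orderOf y → Φ y = 0 := fun y hy => by
    rw [hΦ, Finset.sum_apply]
    exact hw y hy
  have hΦc := Char.isClassFunction_of_isCharacter hΦchar
  have key : ∀ θ ∈ Char.monoSpan (G := G), ∃ v ∈ projSpan hM B, ∀ χ ∈ B,
      (v χ : ℂ) = Cfsg.classInner (θ * Φ) ((χ : Cfsg.IrrCharacter G) : G → ℂ) := by
    intro θ hθ
    induction hθ using AddSubgroup.closure_induction with
    | zero => exact ⟨0, zero_mem _, fun χ _ => by simp [Char.classInner_zero_left]⟩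
    | add θ θ' _ _ h h' =>
      obtain ⟨v, hv, hv'⟩ := h
      obtain ⟨w, hw, hw'⟩ := h'
      exact ⟨v + w, add_mem hv hw, fun χ hχ => by
        rw [add_mul, Char.classInner_add_left, ← hv' χ hχ, ← hw' χ hχ, Pi.add_apply, Int.cast_add]⟩
    | neg θ _ h =>
      obtain ⟨v, hv, hv'⟩ := h
      exact ⟨-v, neg_mem hv, fun χ hχ => by
        rw [neg_mul, Char.classInner_neg_left, ← hv' χ hχ, Pi.neg_apply, Int.cast_neg]⟩
    | mem θ hθ =>
      obtain ⟨E, lam, ⟨q, hq, hE⟩, rfl⟩ := hθ
      have := Fintype.ofFinite E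
      have := Char.IsElementary.isNilpotent hq hE
      obtain ⟨P⟩ : Nonempty (Sylow p E) := inferInstance
      obtain ⟨K, hK, hcard⟩ := Char.exists_pRegular_subgroup p P
      have := Fintype.ofFinite K
      have hPn : (P : Subgroup E).Normal :=
        ((Group.isNilpotent_of_finite_tfae (G := E)).out 0 3 rfl rfl).mp ‹_› p inferInstance P
      have hbij : Function.Bijective fun k : K => ((k : E) : E ⧸ (P : Subgroup E)) := by
        rw [Nat.bijective_iff_injective_and_card]
        refine ⟨(injective_iff_map_eq_one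
          ((QuotientGroup.mk' (P : Subgroup E)).comp K.subtype)).2 fun k hk => ?_, ?_⟩
        · have hkP : (k : E) ∈ (P : Subgroup E) := (QuotientGroup.eq_one_iff _).1 hk
          obtain ⟨i, hi⟩ := IsPGroup.iff_orderOf.1 P.2 ⟨(k : E), hkP⟩
          rw [Subgroup.orderOf_mk] at hi
          have h1 := (hK (k : E)).1 k.2
          rcases i with _ | i
          · rw [pow_zero, orderOf_eq_one_iff] at hi
            exact Subtype.ext hi
          · exact absurd (hi ▸ dvd_pow_self p i.succ_ne_zero) h1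
        · have h1 := (P : Subgroup E).card_eq_card_quotient_mul_card_subgroup
          rw [← hcard] at h1
          exact Nat.eq_of_mul_eq_mul_right Nat.card_pos h1
      let eq : K ≃* E ⧸ (P : Subgroup E) :=
        MulEquiv.ofBijective ((QuotientGroup.mk' (P : Subgroup E)).comp K.subtype) hbij
      let π : E →* K := eq.symm.toMonoidHom.comp (QuotientGroup.mk' (P : Subgroup E))
      have hπ : ∀ k : K, π (k : E) = k := fun k => eq.symm_apply_apply k
      obtain ⟨Ψ, hΨ⟩ : ∃ Ψ : E → ℂ, Ψ = (fun e : E => (lam e : ℂ)) * fun e : E => Φ (e : G) :=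
        ⟨_, rfl⟩
      have hΨchar : Cfsg.IsCharacter E Ψ := by
        rw [hΨ]; exact Char.isCharacter_mul (Char.isCharacter_hom lam) (Char.isCharacter_res E hΦchar)
      have hΨ0 : ∀ e : E, p ∣ orderOf e → Ψ e = 0 := fun e he => by
        rw [hΨ, Pi.mul_apply, hΦ0 _ (by rwa [Subgroup.orderOf_coe]), mul_zero]
      obtain ⟨θ', hθ'⟩ : ∃ θ' : K → ℂ,
          ∀ k : K, θ' k = (Nat.card (P : Subgroup E) : ℂ)⁻¹ * Ψ (k : E) := ⟨_, fun k => rfl⟩
      have hE' : (Nat.card E : ℂ)⁻¹ =
          (Nat.card K : ℂ)⁻¹ * (Nat.card (P : Subgroup E) : ℂ)⁻¹ := by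
        rw [← mul_inv, ← Nat.cast_mul, hcard]
      have hrestr : ∀ (F : E → ℂ), Cfsg.classInner Ψ F =
          Cfsg.classInner θ' (fun k : K => F (k : E)) := by
        intro F
        have h1 : ∑ e : E, Ψ e * conj (F e) = ∑ k : K, Ψ (k : E) * conj (F (k : E)) := by
          rw [← Finset.sum_subtype (Finset.univ.filter fun e : E => e ∈ K) (fun e => by simp)
            (fun e => Ψ e * conj (F e))]
          refine (Finset.sum_filter_of_ne fun e _ hne => (hK e).2 fun he => hne ?_).symm
          rw [hΨ0 e he, zero_mul]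
        simp only [Cfsg.classInner, h1, hE', hθ', mul_assoc, Finset.mul_sum]
      have hθ'c : Cfsg.IsClassFunction K θ' := fun k h => by
        rw [hθ', hθ']
        congr 1
        exact Char.isClassFunction_of_isCharacter hΨchar (k : E) (h : E)
      have hm : ∀ η : Cfsg.IrrCharacter K, ∃ m : ℕ, Cfsg.classInner θ' (η : K → ℂ) = m := by
        intro η
        obtain ⟨m, hm⟩ := Char.classInner_isCharacter_eq_natCast hΨchar
          (Char.isCharacter_comp π (Char.IsIrr.isCharacter η.2))
        refine ⟨m, ?_⟩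
        rw [← hm, hrestr]
        exact congrArg (Cfsg.classInner θ') (funext fun k => congrArg (η : K → ℂ) (hπ k).symm)
      choose mult hmult using hm
      have hKp : ¬ p ∣ Nat.card K := fun h => by
        obtain ⟨x, hx⟩ := exists_prime_orderOf_dvd_card' p h
        refine (hK (x : E)).1 x.2 ?_
        rw [Subgroup.orderOf_coe, hx]
      have : Group.IsNilpotent K := Subgroup.isNilpotent K
      choose L μ hLμ using fun η : Cfsg.IrrCharacter K => Char.exists_monomial η.2
      have hLfin : ∀ η, Fintype (L η) := fun η => Fintype.ofFinite _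
      choose m hmmem hmval using fun η : Cfsg.IrrCharacter K =>
        exists_isMult_linear hM hB ((E.subtype.comp K.subtype).comp (L η).subtype)
          (fun h => hKp (h.trans (Subgroup.card_subgroup_dvd_card (L η)))) (μ η)
      refine ⟨∑ η : Cfsg.IrrCharacter K,
          (mult η : ℤ) • fun χ : Cfsg.IrrCharacter G => (m η χ : ℤ),
        sum_mem fun η _ => AddSubgroup.zsmul_mem _
          (AddSubgroup.subset_closure
            (k := {v | ∃ m, IsMult hM B m ∧ v = fun χ => (m χ : ℤ)}) ⟨m η, hmmem η, rfl⟩) _, fun χ hχ => ?_⟩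
      have hχc := Char.isClassFunction_of_isIrr χ.2
      rw [← Char.indFun_mul_res E _ hΦc, ← hΨ, Char.classInner_indFun_left E Ψ hχc, hrestr,
        Char.classInner_eq_sum hθ'c]
      simp only [Finset.sum_apply, Pi.smul_apply, smul_eq_mul, Int.cast_sum, Int.cast_mul,
        Int.cast_natCast, hmult]
      refine Finset.sum_congr rfl fun η _ => ?_
      rw [hmval η χ hχ, hLμ η, Char.classInner_indFun_left (L η) _
        (fun k h => hχc ((k : E) : G) ((h : E) : G))]
      rfl
  obtain ⟨v, hv, hv'⟩ := key _ Char.one_mem_monoSpan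
  have e : v = fun χ : Cfsg.IrrCharacter G => (w χ : ℤ) := by
    funext χ
    by_cases hχ : χ ∈ B
    · have h := hv' χ hχ
      rw [show (fun _ : G => (1 : ℂ)) * Φ = Φ by funext g; simp, hΦ,
        Char.classInner_sum_left, Finset.sum_eq_single χ (fun ψ _ hne => by
          rw [Char.classInner_smul_left,
            Char.classInner_irr_ne ψ.2 χ.2 fun h => hne (Subtype.ext h), mul_zero]) (by simp),
        Char.classInner_smul_left, Char.classInner_irr_self χ.2, mul_one] at h
      exact_mod_cast h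
    · rw [eq_zero_of_mem_projSpan hM hv hχ, hwB χ hχ, Nat.cast_zero]
  rw [← e]
  exact hv

open scoped Classical in
/-- With one degree the constant list on the block is virtually projective. -/
theorem constant_mem_projSpan [Fact p.Prime] {B : Set (Cfsg.IrrCharacter G)}
    (hB : Cfsg.IsPBlock M B) {d : ℕ}
    (hdeg : ∀ χ ∈ B, Cfsg.charDegree ((χ : Cfsg.IrrCharacter G) : G → ℂ) = d) :
    (fun χ : Cfsg.IrrCharacter G => if χ ∈ B then (1 : ℤ) else 0) ∈ projSpan hM B := by
  obtain ⟨χ₀, hχ₀⟩ := IsPBlock.nonempty hM hB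
  have hd : (d : ℂ) ≠ 0 := by
    rw [← hdeg χ₀ hχ₀, ← (CharArith.irr_degree_spec χ₀).1]
    exact Char.IsIrr.one_ne_zero χ₀.2
  have h := mem_projSpan_of_vanishing hM hB (fun χ => if χ ∈ B then 1 else 0)
    (fun χ hχ => if_neg hχ) fun y hy => ?_
  · simpa only [Nat.cast_ite, Nat.cast_one, Nat.cast_zero] using h
  · have h := BlockChar.sum_block_degree_mul_eq_zero hM hB (y := y) (not_not.2 hy)
    rw [Finset.sum_congr rfl fun χ _ => show
        (if χ ∈ B then (χ : G → ℂ) 1 * (χ : G → ℂ) y else 0) =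
          (d : ℂ) * (((if χ ∈ B then 1 else 0 : ℕ) : ℂ) * (χ : G → ℂ) y) by
        split_ifs with hχ
        · rw [(CharArith.irr_degree_spec χ).1, hdeg χ hχ, Nat.cast_one, one_mul]
        · rw [Nat.cast_zero, zero_mul, mul_zero], ← Finset.mul_sum] at h
    exact (mul_eq_zero.1 h).resolve_left hd

end Cfsg.Agent.BlockChar.EqualDegree
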