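import Cfsg.Agent.BlockChar.EqualDegree.Columns
import Cfsg.Agent.BlockChar.EqualDegree.Constant
import Cfsg.Agent.BlockChar.RegInner

/-!
# The greatest common divisor of the degrees of a block

Its `p`-part is the least `p`-part of a degree, and the sum of the squares of the degrees is its
square times `p ^ d * v` with `v` prime to `p` and at least the rank of the block.
-/

set_option autoImplicit false

namespace Cfsg.Agent.BlockChar.EqualDegree

open scoped ComplexConjugate
open Cfsg.Agent Cfsg.Agent.Blocks Cfsg.Agent.BlockChar Cfsg.Agent.BlockChar.ResidueBlock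

universe u

attribute [local instance] Ideal.Quotient.field

set_option synthInstance.maxHeartbeats 400000
set_option maxHeartbeats 2000000

variable {G : Type u} [Group G] [Fintype G] {p : ℕ} {M : Ideal Cfsg.AlgInt}

/-- An integer that is `p ^ a` times an element of the local ring is divisible by `p ^ a`. -/
theorem pow_dvd_of_local (hM : Cfsg.IsPModular p M) :
    ∀ (a N : ℕ) (x : ℂ), Cfsg.MemLocalRing M x → (N : ℂ) = (p : ℂ) ^ a * x → p ^ a ∣ N := by
  intro a
  induction a with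
  | zero => intro N x _ _; simp
  | succ a ih =>
    intro N x hx e
    have hN : Cfsg.MemLocalIdeal M (N : ℂ) := by
      rw [e, pow_succ', mul_assoc]
      exact memLocalIdeal_mul_right hM ((memLocalIdeal_natCast_iff hM p).2 dvd_rfl)
        ((localRing hM).mul_mem ((localRing hM).pow_mem (memLocalRing_natCast hM p) a) hx)
    obtain ⟨N', rfl⟩ := (memLocalIdeal_natCast_iff hM N).1 hN
    rw [pow_succ']
    refine mul_dvd_mul_left p (ih N' x hx (mul_left_cancel₀ (Nat.cast_ne_zero.2 hM.1.ne_zero) ?_))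
    rw [← mul_assoc, ← pow_succ', ← e, Nat.cast_mul]

/-- A list orthogonal to all the columns vanishes on the p-regular elements. -/
theorem sum_eq_zero_of_orth [M.IsMaximal] [Fact p.Prime] (hM : Cfsg.IsPModular p M)
    {B : Set (Cfsg.IrrCharacter G)} (hB : Cfsg.IsPBlock M B) {n : ℕ}
    (a : Fin n → Cfsg.IrrCharacter G → ℕ)
    (hspan : ∀ v ∈ projSpan hM B, ∃ c : Fin n → ℤ, ∀ χ, v χ = ∑ j, c j * (a j χ : ℤ))
    (x : Cfsg.IrrCharacter G → ℤ) (hxB : ∀ χ, χ ∉ B → x χ = 0)
    (hx : ∀ j, ∑ χ, (a j χ : ℤ) * x χ = 0) {y : G} (hy : ¬ p ∣ orderOf y) :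
    ∑ χ : Cfsg.IrrCharacter G, (x χ : ℂ) * (χ : G → ℂ) y = 0 := by
  classical
  set L := Subgroup.zpowers y with hL
  have := Fintype.ofFinite L
  have hLp : ¬ p ∣ Nat.card L := by rwa [hL, Nat.card_zpowers]
  obtain ⟨Θ, hΘ⟩ : ∃ Θ : L → ℂ, Θ = ∑ χ : Cfsg.IrrCharacter G,
      (x χ : ℂ) • fun l : L => (χ : G → ℂ) (l : G) := ⟨_, rfl⟩
  have hΘc : Cfsg.IsClassFunction L Θ := fun k h => by
    simp only [hΘ, Finset.sum_apply, Pi.smul_apply]
    exact Finset.sum_congr rfl fun χ _ => congrArg _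
      (Char.isClassFunction_of_isIrr χ.2 (k : G) (h : G))
  have hcomm : ∀ k h : L, k * h = h * k := fun k h => by
    obtain ⟨i, hi⟩ := k.2
    obtain ⟨j, hj⟩ := h.2
    refine Subtype.ext ?_
    show (k : G) * (h : G) = (h : G) * (k : G)
    rw [← hi, ← hj]
    exact zpow_mul_comm y i j
  let : CommGroup L := { (inferInstance : Group L) with mul_comm := hcomm }
  have : Group.IsNilpotent L := inferInstance
  have hzero : ∀ η : Cfsg.IrrCharacter L, Cfsg.classInner Θ (η : L → ℂ) = 0 := by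
    intro η
    obtain ⟨K, μ, hμ⟩ := Char.exists_monomial η.2
    have := Fintype.ofFinite K
    obtain ⟨m, hm, hmv⟩ := exists_isMult_linear hM hB (L.subtype.comp K.subtype)
      (fun h => hLp (h.trans (Subgroup.card_subgroup_dvd_card K))) μ
    obtain ⟨c, hc⟩ := hspan _ (AddSubgroup.subset_closure
      (k := {v | ∃ m, IsMult hM B m ∧ v = fun χ => (m χ : ℤ)}) ⟨m, hm, rfl⟩)
    have hm0 : ∑ χ : Cfsg.IrrCharacter G, x χ * (m χ : ℤ) = 0 := by
      simp only [show ∀ χ, (m χ : ℤ) = _ from hc, Finset.mul_sum]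
      rw [Finset.sum_comm]
      refine Finset.sum_eq_zero fun j _ => ?_
      calc ∑ χ, x χ * (c j * (a j χ : ℤ)) = c j * ∑ χ, (a j χ : ℤ) * x χ := by
            rw [Finset.mul_sum]
            exact Finset.sum_congr rfl fun χ _ => by ring
        _ = 0 := by rw [hx j, mul_zero]
    have hterm : ∀ χ : Cfsg.IrrCharacter G,
        (x χ : ℂ) * Cfsg.classInner (η : L → ℂ) (fun l : L => (χ : G → ℂ) (l : G)) =
          ((x χ * (m χ : ℤ) : ℤ) : ℂ) := by
      intro χ
      by_cases hχ : χ ∈ B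
      · have hχc := Char.isClassFunction_of_isIrr χ.2
        rw [Int.cast_mul, Int.cast_natCast, hmv χ hχ, hμ,
          Char.classInner_indFun_left K _ (fun k h => hχc (k : G) (h : G))]
        rfl
      · rw [hxB χ hχ]; simp
    rw [← Char.classInner_conj_symm (η : L → ℂ) Θ, hΘ, Char.classInner_sum_right,
      Finset.sum_congr rfl fun χ _ => show Cfsg.classInner (η : L → ℂ)
        ((x χ : ℂ) • fun l : L => (χ : G → ℂ) (l : G)) = _ by
        rw [Char.classInner_smul_right, map_intCast, hterm], ← Int.cast_sum, hm0]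
    simp
  have h := Invol.apply_eq_sum hΘc ⟨y, Subgroup.mem_zpowers y⟩
  simp only [hzero, zero_mul, Finset.sum_const_zero] at h
  calc _ = Θ ⟨y, Subgroup.mem_zpowers y⟩ := by simp [hΘ, Finset.sum_apply]
    _ = 0 := h.symm

/-- Integral solutions of independent equations, up to a factor prime to `p`. -/
theorem exists_solution [Fact p.Prime] {n : ℕ} {ι : Type*} [Fintype ι] [DecidableEq ι]
    (a : Fin n → ι → ℕ)
    (hrel : ∀ w : Fin n → ℤ, (∀ χ, (p : ℤ) ∣ ∑ j, w j * (a j χ : ℤ)) → ∀ j, (p : ℤ) ∣ w j)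
    (W : Fin n → ℤ) :
    ∃ (q : ℤ) (z : ι → ℤ), ¬ (p : ℤ) ∣ q ∧ ∀ j, ∑ χ, (a j χ : ℤ) * z χ = q * W j := by
  let A : Matrix (Fin n) ι ℤ := Matrix.of fun j χ => (a j χ : ℤ)
  let Ā : Matrix (Fin n) ι (ZMod p) := A.map (Int.castRingHom (ZMod p))
  have hker : LinearMap.ker Ā.vecMulLinear = ⊥ := by
    rw [LinearMap.ker_eq_bot']
    intro c hc
    funext j
    have h := hrel (fun i => ((c i).val : ℤ)) (fun χ => by
      rw [← ZMod.intCast_zmod_eq_zero_iff_dvd]
      have h := congrFun hc χ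
      simp only [Matrix.vecMulLinear_apply, Matrix.vecMul, dotProduct, Ā, A, Matrix.map_apply,
        Matrix.of_apply, eq_intCast, Int.cast_natCast, Pi.zero_apply] at h
      push_cast
      simpa only [ZMod.natCast_zmod_val] using h) j
    rw [← ZMod.intCast_zmod_eq_zero_iff_dvd, Int.cast_natCast, ZMod.natCast_zmod_val] at h
    exact h
  obtain ⟨L, hL⟩ := LinearMap.exists_leftInverse_of_injective Ā.vecMulLinear hker
  let R : Matrix ι (Fin n) ℤ := Matrix.of fun χ j => ((L (Pi.single χ 1) j).val : ℤ)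
  have hAR : (A * R).map (Int.castRingHom (ZMod p)) = 1 := by
    rw [Matrix.map_mul]
    ext i j
    have h1 : Ā i = ∑ χ, Ā i χ • (Pi.single χ 1 : ι → ZMod p) := by
      funext χ
      simp [Finset.sum_apply, Pi.single_apply]
    have h2 : L (Ā i) j = (1 : Matrix (Fin n) (Fin n) (ZMod p)) i j := by
      have h := congrArg (fun f : (Fin n → ZMod p) →ₗ[ZMod p] (Fin n → ZMod p) =>
        f (Pi.single i 1) j) hL
      simp only [LinearMap.comp_apply, Matrix.vecMulLinear_apply, Matrix.single_one_vecMul,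
        LinearMap.id_apply] at h
      rw [Matrix.one_apply, show Ā.row i = Ā i from rfl] at *
      rw [h, Pi.single_apply]
      exact if_congr eq_comm rfl rfl
    rw [← h2, h1, map_sum, Finset.sum_apply, Matrix.mul_apply]
    refine Finset.sum_congr rfl fun χ _ => ?_
    simp only [map_smul, Pi.smul_apply, smul_eq_mul, R, Ā, Matrix.map_apply, Matrix.of_apply,
      eq_intCast, Int.cast_natCast, ZMod.natCast_zmod_val]
  refine ⟨(A * R).det, R.mulVec ((A * R).adjugate.mulVec W), fun h => ?_, fun j => ?_⟩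
  · rw [← ZMod.intCast_zmod_eq_zero_iff_dvd] at h
    have h1 := (Int.castRingHom (ZMod p)).map_det (A * R)
    rw [RingHom.mapMatrix_apply, hAR, Matrix.det_one, eq_intCast, h] at h1
    exact zero_ne_one h1
  · show (A.mulVec (R.mulVec ((A * R).adjugate.mulVec W))) j = _
    rw [Matrix.mulVec_mulVec, Matrix.mulVec_mulVec, Matrix.mul_adjugate, Matrix.smul_mulVec,
      Matrix.one_mulVec]
    rfl

open scoped Classical in
/-- The greatest common divisor of the degrees and the dimension of a block. -/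
theorem gcd_degrees [Fact p.Prime] (hM : Cfsg.IsPModular p M) {B : Set (Cfsg.IrrCharacter G)}
    (hB : Cfsg.IsPBlock M B) {D : Subgroup G} (hD : Cfsg.IsDefectGroup p M B D) {a d : ℕ}
    (ha : (Nat.card G).factorization p = a) (hd : Nat.card D = p ^ d) {g : ℕ}
    (hg1 : ∀ χ ∈ B, g ∣ Cfsg.charDegree ((χ : Cfsg.IrrCharacter G) : G → ℂ))
    (hg2 : ∀ g' : ℕ, (∀ χ ∈ B, g' ∣ Cfsg.charDegree ((χ : Cfsg.IrrCharacter G) : G → ℂ)) → g' ∣ g) :
    g.factorization p = a - d ∧ ∃ v : ℕ, 0 < v ∧ ¬ p ∣ v ∧ Cfsg.blockRank p B ≤ v ∧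
      ∑ᶠ χ ∈ B, Cfsg.charDegree ((χ : Cfsg.IrrCharacter G) : G → ℂ) ^ 2 =
        p ^ (2 * a - d) * (g / p ^ (a - d)) ^ 2 * v := by
  have : M.IsMaximal := hM.2.1
  have hp : p.Prime := hM.1
  obtain ⟨χ₀, hχ₀, hmin⟩ := exists_height_zero (p := p) (IsPBlock.nonempty hM hB)
  have hdeg : ∀ χ : Cfsg.IrrCharacter G, (χ : G → ℂ) 1 = (Cfsg.charDegree (χ : G → ℂ) : ℂ) :=
    fun χ => (CharArith.irr_degree_spec χ).1
  have hpos : ∀ χ : Cfsg.IrrCharacter G, 0 < Cfsg.charDegree (χ : G → ℂ) :=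
    fun χ => (CharArith.irr_degree_spec χ).2
  have hg : 0 < g := Nat.pos_of_dvd_of_pos (hg1 χ₀ hχ₀) (hpos χ₀)
  set μ := minVal p B with hμ
  have hμa : μ ≤ a := ha ▸ (minVal_le hχ₀).trans (degree_val_le χ₀)
  have hbd : Cfsg.blockDefect p B = d :=
    Nat.pow_right_injective hp.two_le ((card_defectGroup hM hB hD).symm.trans hd)
  have hda : d = a - μ := by rw [← hbd, blockDefect_eq, ha]
  have hgp : g.factorization p = μ := by
    refine le_antisymm ?_ ((hp.pow_dvd_iff_le_factorization hg.ne').1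
      (hg2 _ fun χ hχ => pow_minVal_dvd hχ))
    rw [← hmin]
    exact (Nat.factorization_le_iff_dvd hg.ne' (hpos χ₀).ne').2 (hg1 χ₀ hχ₀) p
  have had : a - d = μ := by omega
  refine ⟨hgp.trans had.symm, ?_⟩
  rw [had]
  set u := g / p ^ μ with hu
  have hgu : g = p ^ μ * u := by
    rw [hu, Nat.mul_div_cancel' (hgp ▸ Nat.ordProj_dvd g p)]
  have hup : ¬ p ∣ u := by rw [hu, ← hgp]; exact Nat.not_dvd_ordCompl hp hg.ne'
  -- the reduced degrees
  obtain ⟨w, hw⟩ : ∃ w : Cfsg.IrrCharacter G → ℕ, ∀ χ,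
      w χ = if χ ∈ B then Cfsg.charDegree (χ : G → ℂ) / g else 0 := ⟨_, fun χ => rfl⟩
  have hwB : ∀ χ, χ ∉ B → w χ = 0 := fun χ hχ => by rw [hw, if_neg hχ]
  have hgw : ∀ χ, g * w χ = if χ ∈ B then Cfsg.charDegree (χ : G → ℂ) else 0 := fun χ => by
    rw [hw]
    split_ifs with hχ
    · exact Nat.mul_div_cancel' (hg1 χ hχ)
    · exact mul_zero g
  have hwpos : ∀ χ ∈ B, 0 < w χ := fun χ hχ => by
    refine Nat.pos_of_ne_zero fun e => (hpos χ).ne' ?_
    have h := hgw χ
    rw [e, mul_zero, if_pos hχ] at h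
    exact h.symm
  have hwsing : ∀ y, p ∣ orderOf y →
      ∑ χ : Cfsg.IrrCharacter G, (w χ : ℂ) * (χ : G → ℂ) y = 0 := by
    intro y hy
    have h := BlockChar.sum_block_degree_mul_eq_zero hM hB (y := y) (not_not.2 hy)
    rw [Finset.sum_congr rfl fun χ _ => show
        (if χ ∈ B then (χ : G → ℂ) 1 * (χ : G → ℂ) y else 0) =
          (g : ℂ) * ((w χ : ℂ) * (χ : G → ℂ) y) by
        rw [← mul_assoc, ← Nat.cast_mul, hgw]
        split_ifs
        · rw [hdeg]
        · rw [Nat.cast_zero, zero_mul], ← Finset.mul_sum] at h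
    exact (mul_eq_zero.1 h).resolve_left (Nat.cast_ne_zero.2 hg.ne')
  obtain ⟨n, A, hn, hA, hspan, hrel, hind, s, hspos, hs⟩ := exists_columns hM hB
  obtain ⟨t, ht⟩ := hspan _ (mem_projSpan_of_vanishing hM hB w hwB hwsing)
  have hst : ∀ j, (g : ℤ) * t j = (s j : ℤ) := fun j => by
    have h := hind (fun i => (g : ℤ) * t i - (s i : ℤ)) (fun χ => by
      have e1 : ((g * w χ : ℕ) : ℤ) = ((∑ i, s i * A i χ : ℕ) : ℤ) := by rw [hgw, hs]
      push_cast at e1
      simp only [sub_mul, Finset.sum_sub_distrib, mul_assoc, ← Finset.mul_sum, ← ht χ]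
      rw [e1, sub_self]) j
    exact sub_eq_zero.1 h
  have htpos : ∀ j, 0 < t j := fun j =>
    pos_of_mul_pos_right (by rw [hst]; exact_mod_cast hspos j) (Int.natCast_nonneg g)
  lift t to Fin n → ℕ using fun j => (htpos j).le
  -- degrees of the projectives
  have hMdvd : ∀ j, p ^ d ∣ ∑ χ, A j χ * w χ := by
    intro j
    obtain ⟨f, hfR, -, -, hfA, hfoff⟩ := hA j
    have h1 : ((g * ∑ χ, A j χ * w χ : ℕ) : ℂ) = (Nat.card G : ℂ) * f 1 := by
      calc ((g * ∑ χ, A j χ * w χ : ℕ) : ℂ)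
          = ∑ χ : Cfsg.IrrCharacter G, (χ : G → ℂ) 1 * evC (χ : G → ℂ) f := by
            rw [Finset.mul_sum, Nat.cast_sum]
            refine Finset.sum_congr rfl fun χ _ => ?_
            rw [hfA, hdeg, mul_left_comm, hgw, Nat.cast_mul, mul_comm]
            by_cases hχ : χ ∈ B
            · rw [if_pos hχ]
            · rw [if_neg hχ, hfoff χ hχ]; simp
        _ = ∑ x : G, f x * ∑ χ : Cfsg.IrrCharacter G, (χ : G → ℂ) 1 * (χ : G → ℂ) x := by
            simp only [evC, Finset.mul_sum]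
            rw [Finset.sum_comm]
            exact Finset.sum_congr rfl fun x _ => Finset.sum_congr rfl fun χ _ => by ring
        _ = _ := by
            simp only [Char.regular_eq_sum, mul_ite, mul_zero, Finset.sum_ite_eq', Finset.mem_univ,
              if_true]
            rw [mul_comm]
    have hdv : p ^ a ∣ g * ∑ χ, A j χ * w χ := by
      refine pow_dvd_of_local hM a _ (((Nat.card G / p ^ a : ℕ) : ℂ) * f 1)
        ((localRing hM).mul_mem (memLocalRing_natCast hM _) (hfR 1)) ?_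
      rw [h1, ← mul_assoc, ← Nat.cast_pow, ← Nat.cast_mul, ← ha,
        Nat.ordProj_mul_ordCompl_eq_self]
    rw [hgu, mul_assoc, show a = μ + d by omega, pow_add] at hdv
    exact ((hp.coprime_iff_not_dvd.2 hup).pow_left d).dvd_of_dvd_mul_left
      ((Nat.mul_dvd_mul_iff_left (pow_pos hp.pos μ)).1 hdv)
  choose W hW using hMdvd
  have hWpos : ∀ j, 0 < W j := by
    intro j
    refine Nat.pos_of_ne_zero fun e => one_ne_zero (α := ℤ) ?_
    have h := hW j
    rw [e, mul_zero, Finset.sum_eq_zero_iff] at h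
    have := hind (fun i => if i = j then 1 else 0) (fun χ => by
      simp only [ite_mul, one_mul, zero_mul, Finset.sum_ite_eq', Finset.mem_univ, if_true,
        Int.natCast_eq_zero]
      by_cases hχ : χ ∈ B
      · exact (Nat.mul_eq_zero.1 (h χ (Finset.mem_univ χ))).resolve_right (hwpos χ hχ).ne'
      · obtain ⟨f, -, -, -, -, hfoff⟩ := hA j
        exact hfoff χ hχ) j
    simp at this
  set v := ∑ j, t j * W j with hv
  have hww : ∑ χ, w χ * w χ = p ^ d * v := by
    calc ∑ χ, w χ * w χ = ∑ χ, w χ * ∑ j, t j * A j χ :=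
          Finset.sum_congr rfl fun χ _ => by
            congr 1
            have h := ht χ
            simp only at h
            exact_mod_cast h
      _ = ∑ j, t j * ∑ χ, A j χ * w χ := by
          simp only [Finset.mul_sum]
          rw [Finset.sum_comm]
          exact Finset.sum_congr rfl fun j _ => Finset.sum_congr rfl fun χ _ => by ring
      _ = _ := by
          rw [hv, Finset.mul_sum]
          exact Finset.sum_congr rfl fun j _ => by rw [hW j]; ring
  have hvn : n ≤ v := by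
    calc n = ∑ _j : Fin n, 1 := by simp
      _ ≤ v := Finset.sum_le_sum fun j _ =>
          Nat.one_le_iff_ne_zero.2 (Nat.mul_pos (Int.natCast_pos.1 (htpos j)) (hWpos j)).ne'
  refine ⟨v, Nat.pos_of_ne_zero fun e => ?_, ?_, hn ▸ hvn, ?_⟩
  · rw [e, mul_zero, Finset.sum_eq_zero_iff] at hww
    exact (Nat.mul_pos (hwpos χ₀ hχ₀) (hwpos χ₀ hχ₀)).ne' (hww χ₀ (Finset.mem_univ _))
  · -- prime to `p`
    intro hpv
    obtain ⟨q, z₀, hq, hz₀⟩ := exists_solution A hrel (fun j => (W j : ℤ))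
    obtain ⟨z, hz⟩ : ∃ z : Cfsg.IrrCharacter G → ℤ, ∀ χ, z χ = if χ ∈ B then z₀ χ else 0 :=
      ⟨_, fun χ => rfl⟩
    have hAz : ∀ j, ∑ χ, (A j χ : ℤ) * z χ = q * W j := fun j => by
      rw [← hz₀ j]
      refine Finset.sum_congr rfl fun χ _ => ?_
      rw [hz]
      split_ifs with hχ
      · rfl
      · obtain ⟨f, -, -, -, -, hfoff⟩ := hA j
        rw [hfoff χ hχ]; simp
    have hwz : ∑ χ, (w χ : ℤ) * z χ = q * v := by
      simp only [ht, Finset.sum_mul]
      rw [Finset.sum_comm, hv, Nat.cast_sum, Finset.mul_sum]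
      refine Finset.sum_congr rfl fun j _ => ?_
      simp only [mul_assoc, ← Finset.mul_sum, hAz]
      push_cast
      ring
    have hkey : ∀ y : G, ¬ p ∣ orderOf y →
        (p : ℂ) ^ d * ∑ χ : Cfsg.IrrCharacter G, (z χ : ℂ) * (χ : G → ℂ) y =
          (q : ℂ) * ∑ χ : Cfsg.IrrCharacter G, (w χ : ℂ) * (χ : G → ℂ) y := by
      intro y hy
      have h := sum_eq_zero_of_orth hM hB A hspan
        (fun χ => (p : ℤ) ^ d * z χ - q * (w χ : ℤ))
        (fun χ hχ => by simp [hz, if_neg hχ, hwB χ hχ])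
        (fun j => by
          have e : ((∑ χ, A j χ * w χ : ℕ) : ℤ) = (p : ℤ) ^ d * W j := by rw [hW j]; push_cast; rfl
          push_cast at e
          calc ∑ χ, (A j χ : ℤ) * ((p : ℤ) ^ d * z χ - q * (w χ : ℤ))
              = (p : ℤ) ^ d * ∑ χ, (A j χ : ℤ) * z χ - q * ∑ χ, (A j χ : ℤ) * (w χ : ℤ) := by
                simp only [mul_sub, Finset.sum_sub_distrib, Finset.mul_sum]
                congr 1 <;> exact Finset.sum_congr rfl fun χ _ => by ring
            _ = 0 := by rw [hAz, e]; ring) hy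
      rw [← sub_eq_zero, ← h, Finset.mul_sum, Finset.mul_sum, ← Finset.sum_sub_distrib]
      exact Finset.sum_congr rfl fun χ _ => by push_cast; ring
    have hrow : ∑ ψ : Cfsg.IrrCharacter G, (z ψ : ℂ) * regM p B χ₀ ψ = (q : ℂ) * (w χ₀ : ℂ) := by
      have hΦ : Cfsg.classInner (χ₀ : G → ℂ)
          (∑ ψ : Cfsg.IrrCharacter G, (w ψ : ℂ) • (ψ : G → ℂ)) = (w χ₀ : ℂ) := by
        rw [Char.classInner_sum_right, Finset.sum_eq_single χ₀ (fun ψ _ hne => by
            rw [Char.classInner_smul_right, Char.classInner_irr_ne χ₀.2 ψ.2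
              (fun h => hne (Subtype.ext h).symm), mul_zero]) (by simp),
          Char.classInner_smul_right, Char.classInner_irr_self χ₀.2, mul_one, map_natCast]
      rw [← hΦ, Cfsg.classInner]
      simp only [regM, regSum, hbd, Nat.cast_pow, Finset.mul_sum]
      rw [Finset.sum_comm]
      refine Finset.sum_congr rfl fun y _ => ?_
      by_cases hy : p ∣ orderOf y
      · simp only [if_neg (show ¬ Cfsg.IsPRegular p y from not_not.2 hy), mul_zero,
          Finset.sum_const_zero]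
        have h0 := congrArg conj (hwsing y hy)
        simp only [map_sum, map_mul, map_natCast, map_zero] at h0
        simp [Finset.sum_apply, h0]
      · simp only [if_pos (show Cfsg.IsPRegular p y from hy)]
        calc ∑ ψ : Cfsg.IrrCharacter G, (z ψ : ℂ) *
              ((p : ℂ) ^ d / (Nat.card G : ℂ) * ((χ₀ : G → ℂ) y * conj ((ψ : G → ℂ) y)))
            = (Nat.card G : ℂ)⁻¹ * (χ₀ : G → ℂ) y * conj ((p : ℂ) ^ d *
                ∑ ψ : Cfsg.IrrCharacter G, (z ψ : ℂ) * (ψ : G → ℂ) y) := by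
              simp only [map_mul, map_sum, map_intCast, map_pow, map_natCast, Finset.mul_sum]
              exact Finset.sum_congr rfl fun ψ _ => by ring
          _ = _ := by
              rw [hkey y hy]
              simp only [map_mul, map_sum, map_intCast, map_natCast, Finset.sum_apply,
                Pi.smul_apply, smul_eq_mul]
              ring
    set m := Nat.card G / p ^ (Nat.card G).factorization p with hm
    set ω₀ := omega (χ₀ : G → ℂ) (regConj p (χ₀ : G → ℂ)) with hω₀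
    have hred : ∀ ψ ∈ B, redDeg p B ψ = u * w ψ := fun ψ hψ => by
      have h := hgw ψ
      rw [if_pos hψ, (redDeg_mul hp hψ).1, hgu, mul_assoc] at h
      exact (Nat.eq_of_mul_eq_mul_left (pow_pos hp.pos μ) h).symm
    have hcongr : Cfsg.MemLocalIdeal M
        ((m : ℂ) * ((q : ℂ) * (w χ₀ : ℂ)) - (u : ℂ) * ω₀ * ((q * v : ℤ) : ℂ)) := by
      rw [← hrow, ← hwz, Int.cast_sum, Finset.mul_sum, Finset.mul_sum, ← Finset.sum_sub_distrib]
      refine memLocalIdeal_sum hM _ fun ψ _ => ?_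
      by_cases hψ : ψ ∈ B
      · have e : (m : ℂ) * ((z ψ : ℂ) * regM p B χ₀ ψ) -
            (u : ℂ) * ω₀ * (((w ψ : ℤ) * z ψ : ℤ) : ℂ) =
            ((u * w ψ : ℕ) : ℂ) * (z ψ : ℂ) *
              (omega (ψ : G → ℂ) (regConj p (χ₀ : G → ℂ)) - ω₀) := by
          rw [← regM_comm hM χ₀ ψ, mul_left_comm, regM_eq hp hψ, hred ψ hψ]
          push_cast
          ring
        rw [e]
        exact memLocalIdeal_mul_left hM ((localRing hM).mul_mem (memLocalRing_natCast hM _)
          (memLocalRing_of_isIntegral hM (Blocks.isIntegral_intCast _)))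
          (memLocalIdeal_omega_sub hM ψ.2 χ₀.2
            (isClassFunction_regConj (Char.isClassFunction_of_isIrr χ₀.2))
            (regConj_memLocalRing hM χ₀) (IsPBlock.sameBlock hM hB hψ hχ₀))
      · rw [hz, if_neg hψ]
        simpa using memLocalIdeal_zero hM
    have h2 : Cfsg.MemLocalIdeal M ((u : ℂ) * ω₀ * ((q * v : ℤ) : ℂ)) :=
      memLocalIdeal_mul_left hM ((localRing hM).mul_mem (memLocalRing_natCast hM _)
          (memLocalRing_of_isIntegral hM (isIntegral_omega_regConj χ₀ χ₀)))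
        ((memLocalIdeal_intCast_iff hM _).2 (dvd_mul_of_dvd_right (Int.natCast_dvd_natCast.2 hpv) q))
    have h3 := memLocalIdeal_add hM hcongr h2
    rw [sub_add_cancel, show (m : ℂ) * ((q : ℂ) * (w χ₀ : ℂ)) =
      (((m : ℤ) * (q * (w χ₀ : ℤ)) : ℤ) : ℂ) by push_cast; ring, memLocalIdeal_intCast_iff hM] at h3
    have hpZ := Nat.prime_iff_prime_int.1 hp
    rcases hpZ.dvd_mul.1 h3 with h | h
    · exact Nat.not_dvd_ordCompl hp Nat.card_pos.ne' (Int.natCast_dvd_natCast.1 h)
    rcases hpZ.dvd_mul.1 h with h | h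
    · exact hq h
    have h0 : ¬ p ∣ redDeg p B χ₀ :=
      (not_dvd_redDeg_iff hp hχ₀).2 (by rw [blockHeight_eq, hmin, Nat.sub_self])
    rw [hred χ₀ hχ₀] at h0
    exact h0 (dvd_mul_of_dvd_right (Int.natCast_dvd_natCast.1 h) u)
  · rw [finsum_mem_eq_finite_toFinset_sum _ B.toFinite,
      show 2 * a - d = μ + μ + d by omega]
    calc ∑ χ ∈ B.toFinite.toFinset, Cfsg.charDegree ((χ : Cfsg.IrrCharacter G) : G → ℂ) ^ 2
        = ∑ χ, g ^ 2 * (w χ * w χ) := by
          refine Finset.sum_subset_zero_on_sdiff (Finset.subset_univ _) ?_ ?_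
          · intro χ hχ
            rw [Finset.mem_sdiff, Set.Finite.mem_toFinset] at hχ
            rw [hwB χ hχ.2, mul_zero, mul_zero]
          · intro χ hχ
            rw [Set.Finite.mem_toFinset] at hχ
            have h := hgw χ
            rw [if_pos hχ] at h
            rw [← h]; ring
      _ = _ := by rw [← Finset.mul_sum, hww, hgu]; ring

end Cfsg.Agent.BlockChar.EqualDegree
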