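import Cfsg.Agent.BlockChar.EqualDegree.Constant
import Cfsg.Agent.BlockChar.EqualDegree.Centre
import Cfsg.Agent.BlockChar.Cyclic.Transport
import Cfsg.Agent.BrauerPairs.FirstMain
import Cfsg.Agent.BrauerPairs.AbelianDefect
import Cfsg.Agent.Blocks.Star.NilpotentMain
import Cfsg.Agent.Blocks.Star.AbelianLocal

/-!
# Blocks with abelian defect groups, all heights zero and one degree

The centre of such a block embeds into the centre of the block of a maximal pair, which has the
same dimension, so the stabilizer of the pair centralizes the defect group.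
-/

set_option autoImplicit false

namespace Cfsg.Agent.BlockChar.EqualDegree

open Module Cfsg.Agent Cfsg.Agent.Blocks Cfsg.Agent.BrauerPairs Cfsg.Agent.BlockChar
  Cfsg.Agent.BlockChar.ResidueBlock
open Cfsg.Agent.BlockChar.Cyclic (bElt bElt_idem bElt_central centerSpace trunc coeff_trunc
  trunc_mul_of_fixed conjRep conjRep_apply conjRep_mul coeff_conjRep Fixed eElt eElt_ne_zero
  conjRep_eElt emb emb_of emb_bElt emb_res coeff_emb_coe emb_mem res_central resFun_zero')

universe u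

attribute [local instance] Ideal.Quotient.field

set_option synthInstance.maxHeartbeats 400000
set_option maxHeartbeats 2000000

variable {G : Type u} [Group G] [Fintype G] {p : ℕ} {M : Ideal Cfsg.AlgInt}

local notation "𝕜" => Cfsg.AlgInt ⧸ M
local notation "A₀" => MonoidAlgebra (Cfsg.AlgInt ⧸ M) G
local notation "CG[" Q "]" => Subgroup.centralizer (SetLike.coe Q)

/-- A block whose defect group is abelian and central has as many characters as the defect group
has elements. -/
theorem card_local_block [Fact p.Prime] (hM : Cfsg.IsPModular p M)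
    {B : Set (Cfsg.IrrCharacter G)} {D : Subgroup G} {c : Set (Cfsg.IrrCharacter CG[D])}
    (hmax : Cfsg.IsMaximalBrauerPair p M B D c) (hab : ∀ x ∈ D, ∀ y ∈ D, x * y = y * x) :
    Nat.card c = Nat.card D := by
  classical
  have hDK : D ≤ CG[D] := fun x hx => Subgroup.mem_centralizer_iff.2 fun y hy => hab y hy x hx
  have hn := Blocks.Star.normal_of_le hM hmax hab
    (show Cfsg.SubpairLE p M D c D c from Relation.ReflTransGen.refl)
  have hmaxK := Cyclic.maximal_local hM hmax hn hDK le_rfl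
  letI := Fintype.ofFinite CG[D]
  have hnil : Cfsg.IsNilpotentBlock p M c := by
    rw [nilpotent_iff_of_abelian hM hmaxK fun x hx y hy => Subtype.ext (hab _ hx _ hy)]
    intro g _ _
    exact Subgroup.mem_centralizer_iff.2 fun u hu =>
      Subtype.ext (Subgroup.mem_centralizer_iff.1 g.2 (u : G) hu)
  obtain ⟨Φ, -⟩ := Blocks.Star.nilpotent_height_bijection hM hnil
    (isDefectGroup_of_maximal hM hmaxK)
  rw [Nat.card_congr Φ, Char.card_irrCharacter,
    ← Nat.card_congr (Subgroup.subgroupOfEquivOfLe hDK).toEquiv]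
  refine (Nat.card_eq_of_bijective ConjClasses.mk ⟨fun a b h => ?_, ConjClasses.mk_surjective⟩).symm
  obtain ⟨x, hx⟩ := isConj_iff.1 (ConjClasses.mk_eq_mk_iff_isConj.1 h)
  rw [← hx]
  refine Subtype.ext (Subtype.ext ?_)
  show (((a : CG[D]) : G)) = ((x : CG[D]) : G) * ((a : CG[D]) : G) * ((x : CG[D]) : G)⁻¹
  rw [hab ((x : CG[D]) : G) x.2 ((a : CG[D]) : G) a.2, mul_inv_cancel_right]

open scoped Classical in
/-- With one degree and heights zero the stabilizer of a maximal pair centralizes an abelian defect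
group. -/
theorem mem_centralizer_of_stabilizes [Fact p.Prime] (hM : Cfsg.IsPModular p M)
    {B : Set (Cfsg.IrrCharacter G)} {D : Subgroup G} {c : Set (Cfsg.IrrCharacter CG[D])}
    (hmax : Cfsg.IsMaximalBrauerPair p M B D c) (hab : ∀ x ∈ D, ∀ y ∈ D, x * y = y * x) {d : ℕ}
    (hdeg : ∀ χ ∈ B, Cfsg.charDegree ((χ : Cfsg.IrrCharacter G) : G → ℂ) = d)
    (h0 : ∀ χ ∈ B, Cfsg.blockHeight p B ((χ : Cfsg.IrrCharacter G) : G → ℂ) = 0) {t : G}
    (htN : t ∈ Subgroup.normalizer (D : Set G)) (hst : Cfsg.StabilizesBlock CG[D] c t) :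
    t ∈ CG[D] := by
  have : M.IsMaximal := hM.2.1
  have := charP_residueField hM
  have hB := hmax.1.2.1
  have hc := hmax.1.1.2
  have hDp : IsPGroup p D := hmax.1.1.1
  have hD := isDefectGroup_of_maximal hM hmax
  letI := Fintype.ofFinite CG[D]
  obtain ⟨χ₀, hχ₀⟩ := IsPBlock.nonempty hM hB
  obtain ⟨hl, f, hfR, hfid, -, hev, hann⟩ :=
    exists_unit_idem hM hB hdeg (constant_mem_projSpan hM hB hdeg)
  have hd0 : (d : ℂ) ≠ 0 := by
    rw [← hdeg χ₀ hχ₀, ← (CharArith.irr_degree_spec χ₀).1]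
    exact Char.IsIrr.one_ne_zero χ₀.2
  have hsing : ∀ y, p ∣ orderOf y →
      ∑ χ : Cfsg.IrrCharacter G, (if χ ∈ B then (χ : G → ℂ) y else 0) = 0 := by
    intro y hy
    have h := BlockChar.sum_block_degree_mul_eq_zero hM hB (y := y) (not_not.2 hy)
    rw [Finset.sum_congr rfl fun χ _ => show
        (if χ ∈ B then (χ : G → ℂ) 1 * (χ : G → ℂ) y else 0) =
          (d : ℂ) * (if χ ∈ B then (χ : G → ℂ) y else 0) by
        split_ifs with hχ
        · rw [(CharArith.irr_degree_spec χ).1, hdeg χ hχ]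
        · rw [mul_zero], ← Finset.mul_sum] at h
    exact (mul_eq_zero.1 h).resolve_left hd0
  have hk : Nat.card B = Nat.card D := by
    rw [card_eq_pow hM hB hl hdeg h0 hsing, card_defectGroup hM hB hD]
  have : FiniteDimensional 𝕜 A₀ := Module.Finite.of_basis (MonoidAlgebra.basis G 𝕜)
  set ec := eElt hM CG[D] c with hec
  set Z := centerSpace 𝕜 (bElt hM B) with hZ
  have hfix : ∀ (Q : Subgroup G) (x : A₀), (∀ y, x * y = y * x) → Fixed (conjRep 𝕜) Q x :=
    fun Q x hx q _ => by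
      rw [conjRep_apply, ← hx, mul_assoc, ← map_mul, mul_inv_cancel, map_one, mul_one]
  have htr : ∀ n ∈ Subgroup.normalizer (D : Set G), ∀ z ∈ Z,
      conjRep 𝕜 n (trunc 𝕜 CG[D] z) = trunc 𝕜 CG[D] z := by
    intro n hn z hz
    refine MonoidAlgebra.coeff_injective (Finsupp.ext fun x => ?_)
    have h1 := congrArg (fun w : A₀ => w.coeff x) (hfix (Subgroup.zpowers n) z hz.1 n
      (Subgroup.mem_zpowers n))
    simp only [coeff_conjRep] at h1
    have hiff : n⁻¹ * x * n ∈ CG[D] ↔ x ∈ CG[D] := by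
      have h := mem_centralizer_iff_of_mem_normalizer
        ((Subgroup.normalizer (D : Set G)).inv_mem hn) x
      rw [inv_inv] at h
      exact h.symm
    rw [coeff_conjRep, coeff_trunc, coeff_trunc, h1]
    exact if_congr hiff rfl rfl
  -- the map to the centre of the block of the pair is injective
  let ψ : A₀ →ₗ[𝕜] A₀ := LinearMap.mulRight 𝕜 ec ∘ₗ trunc 𝕜 CG[D]
  have hψ : ∀ z, ψ z = trunc 𝕜 CG[D] z * ec := fun z => rfl
  have hinj : Function.Injective (ψ.domRestrict Z) := by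
    refine (injective_iff_map_eq_zero _).2 fun z hz => Subtype.ext ?_
    refine eq_zero_of_trunc_eq_zero hM hB hD hdeg hfR hfid hev hann z.2 ?_
    replace hz : trunc 𝕜 CG[D] (z : A₀) * ec = 0 := hz
    letI := Fintype.ofFinite (PBlock M CG[D])
    set O := Finset.univ.filter (fun b : PBlock M CG[D] => InOrb D c b.1) with hO
    have hε : trunc 𝕜 CG[D] (bElt hM B) = ∑ b ∈ O, eElt hM CG[D] b.1 := by
      refine MonoidAlgebra.coeff_injective (Finsupp.ext fun x => ?_)
      rw [MonoidAlgebra.coeff_sum, Finsupp.finsetSum_apply, coeff_trunc]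
      have hsum : ∑ b ∈ O, (eElt hM CG[D] b.1).coeff x = resFun hM (orbitIdem M D c x) := by
        simp only [eElt, coeff_res]
        rw [orbitIdem, Finset.sum_apply,
          BlockThms.OrderP.resFun_sum hM _ fun b _ => memLocalRing_sbc hM b.2 x]
      rw [hsum]
      split_ifs with hx
      · have h := memLocalIdeal_sub_orbitIdem (e := c) hM hDp
          (IsInv.of_isClassFunction (isClassFunction_blockCoeff B) _)
          (IsInv.of_isClassFunction (isClassFunction_blockCoeff B) _)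
          (memLocalRing_blockCoeff hM hB) (by convert blockCoeff_conv B) (pair_iff_inOrb hM hmax) hx
        rw [bElt, coeff_res]
        exact (residue_eq_iff hM ⟨_, memLocalRing_blockCoeff hM hB x⟩
          ⟨_, memLocalRing_orbitIdem hM x⟩).2 h
      · rw [orbitIdem_support hx, resFun_zero' hM]
    have h1 := trunc_mul_of_fixed 𝕜 hDp (hfix D _ (bElt_central hM (B := B))) (hfix D _ z.2.1)
    rw [z.2.2, hε, Finset.sum_mul] at h1
    rw [h1]
    refine Finset.sum_eq_zero fun b hb => ?_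
    obtain ⟨n, hn, hnv⟩ := (Finset.mem_filter.1 hb).2
    have he : eElt hM CG[D] b.1 = conjRep 𝕜 n ec := by
      rw [hec, conjRep_eElt, eElt]
      exact congrArg (res hM) (funext hnv)
    have hmem : trunc 𝕜 CG[D] (z : A₀) ∈ Cyclic.kSub 𝕜 CG[D] := Cyclic.trunc_mem 𝕜 _ _
    rw [Cyclic.eElt_comm hM hmem, he, ← htr n hn _ z.2, ← conjRep_mul, hz, map_zero]
  -- its range
  set W := (centerSpace 𝕜 (bElt hM c)).map (emb 𝕜 CG[D]).toLinearMap with hW
  have hrange : LinearMap.range (ψ.domRestrict Z) ≤ W := by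
    rintro _ ⟨⟨z, hzc, hεz⟩, rfl⟩
    obtain ⟨v, hv⟩ : ∃ v : CG[D] → ℂ, ∀ a : CG[D], v a = lift z (a : G) := ⟨_, fun a => rfl⟩
    have hvc : Cfsg.IsClassFunction CG[D] v := fun a b => by
      rw [hv, hv]
      exact isClassFunction_lift hzc (a : G) (b : G)
    have hz' : trunc 𝕜 CG[D] z = emb 𝕜 CG[D] (res hM v) := by
      refine MonoidAlgebra.coeff_injective (Finsupp.ext fun x => ?_)
      rw [coeff_trunc]
      split_ifs with hx
      · conv_rhs => rw [← Subgroup.coe_mk CG[D] x hx, coeff_emb_coe, coeff_res, hv]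
        conv_lhs => rw [← res_lift hM z, coeff_res]
      · exact (emb_mem 𝕜 _ x hx).symm
    refine ⟨res hM v * bElt hM c, ⟨fun y => ?_, ?_⟩, ?_⟩
    · rw [mul_assoc, bElt_central hM y, ← mul_assoc, res_central hM hvc, mul_assoc]
    · rw [← mul_assoc, bElt_central hM, mul_assoc, bElt_idem hM hc]
    · show emb 𝕜 CG[D] (res hM v * bElt hM c) = trunc 𝕜 CG[D] z * ec
      rw [map_mul, ← hz', emb_bElt hM]
  have : FiniteDimensional 𝕜 W := FiniteDimensional.finiteDimensional_submodule W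
  have heq : LinearMap.range (ψ.domRestrict Z) = W := by
    refine Submodule.eq_of_le_of_finrank_le hrange ?_
    rw [LinearMap.finrank_range_of_inj hinj]
    refine ((Submodule.finrank_map_le _ _).trans
      (Blocks.NormalDefect.finrank_centre_le hM (memLocalRing_blockCoeff hM hc))).trans ?_
    rw [card_local_block hM hmax hab, ← hk]
    exact Blocks.NormalDefect.card_le_finrank_centre hM (memLocalRing_blockCoeff hM hB)
  -- the stabilizer fixes the translates of the idempotent of the pair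
  have htec : conjRep 𝕜 t ec = ec := by
    rw [hec, conjRep_eElt, eElt]
    exact congrArg (res hM) (funext fun x =>
      ((stabilizesBlock_iff hM htN hc).1 hst).conj_inv (Set.mem_singleton t) x)
  refine Subgroup.mem_centralizer_iff.2 fun u hu => ?_
  have huK : u ∈ CG[D] := Subgroup.mem_centralizer_iff.2 fun y hy => hab y hy u hu
  have hu' : MonoidAlgebra.of 𝕜 G u * ec ∈ W := by
    refine ⟨MonoidAlgebra.of 𝕜 CG[D] ⟨u, huK⟩ * bElt hM c, ⟨fun y => ?_, ?_⟩, ?_⟩
    · have hcomm : MonoidAlgebra.of 𝕜 CG[D] ⟨u, huK⟩ * y =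
          y * MonoidAlgebra.of 𝕜 CG[D] ⟨u, huK⟩ := by
        induction y using MonoidAlgebra.induction_on with
        | of g =>
          rw [← map_mul, ← map_mul]
          exact congrArg _ (Subtype.ext (Subgroup.mem_centralizer_iff.1 g.2 u hu))
        | add a b ha hb => rw [mul_add, add_mul, ha, hb]
        | smul r a ha => rw [mul_smul_comm, smul_mul_assoc, ha]
      rw [mul_assoc, bElt_central hM y, ← mul_assoc, hcomm, mul_assoc]
    · rw [← mul_assoc, bElt_central hM, mul_assoc, bElt_idem hM hc]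
    · show emb 𝕜 CG[D] (MonoidAlgebra.of 𝕜 CG[D] ⟨u, huK⟩ * bElt hM c) = _
      rw [map_mul, emb_of, emb_bElt hM]
  rw [← heq] at hu'
  obtain ⟨z, hz⟩ := hu'
  have hfixed : conjRep 𝕜 t (MonoidAlgebra.of 𝕜 G u * ec) = MonoidAlgebra.of 𝕜 G u * ec := by
    rw [← hz]
    show conjRep 𝕜 t (trunc 𝕜 CG[D] (z : A₀) * ec) = trunc 𝕜 CG[D] (z : A₀) * ec
    rw [conjRep_mul, htr t htN _ z.2, htec]
  set w := u⁻¹ * (t * u * t⁻¹) with hw
  have hwD : w ∈ D := D.mul_mem (D.inv_mem hu) ((Subgroup.mem_normalizer_iff.1 htN u).1 hu)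
  have hwe : MonoidAlgebra.of 𝕜 G w * ec = ec := by
    have e1 : conjRep 𝕜 t (MonoidAlgebra.of 𝕜 G u) = MonoidAlgebra.of 𝕜 G (t * u * t⁻¹) := by
      rw [conjRep_apply, ← map_mul, ← map_mul]
    rw [conjRep_mul, htec, e1] at hfixed
    rw [hw, map_mul, mul_assoc, hfixed, ← mul_assoc, ← map_mul, inv_mul_cancel, map_one, one_mul]
  obtain ⟨x, hx⟩ : ∃ x, ec.coeff x ≠ 0 := by
    by_contra! h
    exact eElt_ne_zero hM hc (MonoidAlgebra.coeff_injective (Finsupp.ext h))
  have hregular : ∀ y : G, ec.coeff y ≠ 0 → y ∈ CG[D] ∧ ¬ p ∣ orderOf y := by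
    intro y hy
    rw [hec, eElt, coeff_res] at hy
    by_cases hyK : y ∈ CG[D]
    · refine ⟨hyK, fun hp => hy ?_⟩
      rw [show Cfsg.subgroupBlockCoeff CG[D] c y = Cfsg.blockCoeff c ⟨y, hyK⟩ from
        sbc_apply c ⟨y, hyK⟩, BlockChar.blockCoeff_eq_zero hM hc (y := ⟨y, hyK⟩)
          (fun h : ¬ p ∣ orderOf (⟨y, hyK⟩ : CG[D]) => h (by rwa [Subgroup.orderOf_mk])),
        resFun_zero' hM]
    · exact absurd (by rw [sbc_of_notMem c hyK, resFun_zero' hM]) hy
  obtain ⟨hxK, hxr⟩ := hregular x hx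
  have hcx : (ec.coeff (w * x)) ≠ 0 := by
    have h := congrArg (fun a : A₀ => a.coeff (w * x)) hwe
    simp only [MonoidAlgebra.of_apply, MonoidAlgebra.coeff_single_mul_apply, one_mul,
      inv_mul_cancel_left] at h
    rwa [← h]
  have hw1 : w = 1 := by
    by_contra hne
    refine (hregular _ hcx).2 ?_
    have hcomm : Commute w x := Subgroup.mem_centralizer_iff.1 hxK w hwD
    obtain ⟨i, hi⟩ := IsPGroup.iff_orderOf.1 hDp ⟨w, hwD⟩
    rw [Subgroup.orderOf_mk] at hi
    rcases i with _ | i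
    · rw [pow_zero, orderOf_eq_one_iff] at hi
      exact absurd hi hne
    rw [hcomm.orderOf_mul_eq_mul_orderOf_of_coprime (by
      rw [hi]; exact (hM.1.coprime_iff_not_dvd.2 hxr).pow_left _), hi]
    exact dvd_mul_of_dvd_left (dvd_pow_self p i.succ_ne_zero) _
  rw [hw, inv_mul_eq_one] at hw1
  calc u * t = t * u * t⁻¹ * t := by rw [← hw1]
    _ = t * u := by group

/-- Abelian defect group and heights zero: all degrees are equal exactly for nilpotent blocks. -/
theorem equal_degrees_iff_nilpotent [Fact p.Prime] (hM : Cfsg.IsPModular p M)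
    {B : Set (Cfsg.IrrCharacter G)} (hB : Cfsg.IsPBlock M B) {D : Subgroup G}
    (hD : Cfsg.IsDefectGroup p M B D) (hab : ∀ x ∈ D, ∀ y ∈ D, x * y = y * x)
    (h0 : ∀ χ ∈ B, Cfsg.blockHeight p B ((χ : Cfsg.IrrCharacter G) : G → ℂ) = 0) :
    (∃ d : ℕ, ∀ χ : Cfsg.IrrCharacter G, χ ∈ B → Cfsg.charDegree (χ : G → ℂ) = d) ↔
      Cfsg.IsNilpotentBlock p M B := by
  classical
  obtain ⟨c, hmax⟩ := exists_maximal_on hM hB hD
  constructor
  · rintro ⟨d, hd⟩
    exact (nilpotent_iff_of_abelian hM hmax hab).2 fun x hxN hst =>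
      mem_centralizer_of_stabilizes hM hmax hab hd h0 hxN hst
  · intro hnil
    obtain ⟨χ₀, hχ₀⟩ := IsPBlock.nonempty hM hB
    obtain ⟨Θ, hΘ⟩ := Blocks.Star.exists_twist_equiv hM hmax hnil hχ₀ (h0 χ₀ hχ₀)
    refine ⟨Cfsg.charDegree (χ₀ : G → ℂ), fun χ hχ => ?_⟩
    obtain ⟨η, hη⟩ := Θ.surjective ⟨χ, hχ⟩
    obtain ⟨n, hn0, hn⟩ := Char.IsIrr.degree η.2
    obtain ⟨n₀, hn₀0, hn₀⟩ := Char.IsIrr.degree χ₀.2
    have h1 : (χ : G → ℂ) 1 = ((n * n₀ : ℕ) : ℂ) := by
      have := hΘ η 1 (by simp [hM.1.ne_one])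
      rw [hη, hn, hn₀] at this
      rw [this, Nat.cast_mul]
    have h := h0 χ hχ
    have h00 := h0 χ₀ hχ₀
    rw [BlockChar.blockHeight_eq, charDegree_eq h1, Nat.factorization_mul hn0.ne' hn₀0.ne',
      Finsupp.add_apply] at h
    rw [BlockChar.blockHeight_eq, charDegree_eq hn₀] at h00
    have h2 := BlockChar.minVal_le (p := p) hχ₀
    rw [charDegree_eq hn₀] at h2
    have hpf : n.factorization p = 0 := by omega
    obtain ⟨k, hk⟩ := IsPGroup.iff_card.1 hmax.1.1.1
    have hdvd : n ∣ p ^ k := hk ▸ Char.IsIrr.degree_dvd_card η.2 hn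
    obtain ⟨i, -, rfl⟩ := (Nat.dvd_prime_pow hM.1).1 hdvd
    rw [hM.1.factorization_pow, Finsupp.single_eq_same] at hpf
    rw [charDegree_eq h1, charDegree_eq hn₀, hpf, pow_zero, one_mul]

end Cfsg.Agent.BlockChar.EqualDegree
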