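import Cfsg.Agent.BlockChar.EqualDegree.Lift
import Cfsg.Agent.BlockChar.Cyclic.Simples
import Cfsg.Agent.BlockChar.Cyclic.Rank1
import Cfsg.Agent.BlockChar.Cyclic.CornerFix
import Cfsg.Agent.BlockChar.Cyclic.Embed

/-!
# A block with one degree whose constant multiplicity vector is virtually projective

Such a block has one simple module and an idempotent seen once by every character of the block.
-/

set_option autoImplicit false

namespace Cfsg.Agent.BlockChar.EqualDegree

open Module Cfsg.Agent Cfsg.Agent.Blocks Cfsg.Agent.BlockChar.ResidueBlock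
open Cfsg.Agent.BlockChar.Cyclic (bElt bElt_idem bElt_central exists_simples exists_smul_eq
  exists_idem_of_nilpotent blockRank_eq_card)
open Cfsg.Agent.BlockThms.OrderP (SimpleMod tr tr_conj trace_lsmul_eq)

universe u v w w'

attribute [local instance] Ideal.Quotient.field

set_option synthInstance.maxHeartbeats 400000
set_option maxHeartbeats 4000000

section Rank

variable (k : Type w) [Field k] {R : Type w'} [Ring R] [Algebra k R]

/-- The rank of an element on a module. -/
noncomputable def actRank (x : R) (S : Type v) [AddCommGroup S] [Module k S] [Module R S]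
    [IsScalarTower k R S] : ℕ :=
  Module.finrank k (LinearMap.range (Algebra.lsmul k k S x : Module.End k S))

variable {S : Type v} [AddCommGroup S] [Module k S] [Module R S] [IsScalarTower k R S]

theorem isProj_lsmul {x : R} (hx : x * x = x) :
    LinearMap.IsProj (LinearMap.range (Algebra.lsmul k k S x : Module.End k S))
      (Algebra.lsmul k k S x : Module.End k S) :=
  ⟨fun v => ⟨v, rfl⟩, fun v ⟨w, hw⟩ => by
    rw [← hw]
    show x • x • w = x • w
    rw [← mul_smul, hx]⟩

theorem trace_lsmul_idem [FiniteDimensional k S] {x : R} (hx : x * x = x) :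
    LinearMap.trace k S (Algebra.lsmul k k S x) = (actRank k x S : k) :=
  (isProj_lsmul k hx).trace

theorem actRank_of_subsingleton [Subsingleton S] (x : R) : actRank k x S = 0 :=
  Module.finrank_zero_of_subsingleton

theorem actRank_congr {S' : Type v} [AddCommGroup S'] [Module k S'] [Module R S']
    [IsScalarTower k R S'] (e : S ≃ₗ[R] S') (x : R) : actRank k x S = actRank k x S' := by
  have h : (LinearMap.range (Algebra.lsmul k k S x : Module.End k S)).map
      (e.restrictScalars k).toLinearMap = LinearMap.range (Algebra.lsmul k k S' x : Module.End k S') := by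
    ext y
    constructor
    · rintro ⟨_, ⟨w, rfl⟩, rfl⟩
      exact ⟨e w, (map_smul e x w).symm⟩
    · rintro ⟨w, rfl⟩
      exact ⟨x • e.symm w, ⟨e.symm w, rfl⟩, by
        show e (x • e.symm w) = x • w
        rw [map_smul, e.apply_symm_apply]⟩
  rw [actRank, actRank, ← h]
  exact ((e.restrictScalars k).submoduleMap _).finrank_eq

theorem actRank_submodule [FiniteDimensional k S] {x : R} (hx : x * x = x)
    (W : Submodule R S) : actRank k x S = actRank k x W + actRank k x (S ⧸ W) := by
  set U := LinearMap.range (Algebra.lsmul k k S x : Module.End k S) with hU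
  let q : U →ₗ[k] (S ⧸ W) := (Submodule.mkQ W).restrictScalars k ∘ₗ U.subtype
  have hrange : LinearMap.range q =
      LinearMap.range (Algebra.lsmul k k (S ⧸ W) x : Module.End k (S ⧸ W)) := by
    ext y
    constructor
    · rintro ⟨⟨_, v, rfl⟩, rfl⟩
      exact ⟨Submodule.Quotient.mk v, rfl⟩
    · rintro ⟨z, rfl⟩
      obtain ⟨v, rfl⟩ := Submodule.mkQ_surjective W z
      exact ⟨⟨_, v, rfl⟩, rfl⟩
  have hker : (LinearMap.ker q).map U.subtype =
      (LinearMap.range (Algebra.lsmul k k W x : Module.End k W)).map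
        (W.subtype.restrictScalars k) := by
    ext y
    constructor
    · rintro ⟨⟨_, v, rfl⟩, hy, rfl⟩
      have hv : x • v ∈ W := (Submodule.Quotient.mk_eq_zero W).1 hy
      refine ⟨x • (⟨x • v, hv⟩ : W), ⟨⟨x • v, hv⟩, rfl⟩, ?_⟩
      show x • x • v = x • v
      rw [← mul_smul, hx]
    · rintro ⟨_, ⟨w, rfl⟩, rfl⟩
      refine ⟨⟨x • (w : S), (w : S), rfl⟩, ?_, rfl⟩
      exact (Submodule.Quotient.mk_eq_zero W).2 (W.smul_mem x w.2)
  have h1 := LinearMap.finrank_range_add_finrank_ker q
  rw [hrange, ← Submodule.finrank_map_subtype_eq U (LinearMap.ker q), hker] at h1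
  have hinj : Function.Injective (W.subtype.restrictScalars k) := Subtype.val_injective
  rw [← (Submodule.equivMapOfInjective _ hinj _).finrank_eq] at h1
  simp only [actRank]
  rw [← hU, ← h1]
  exact add_comm _ _

end Rank

variable {G : Type u} [Group G] [Fintype G] {p : ℕ} {M : Ideal Cfsg.AlgInt} [M.IsMaximal]

local notation "𝕜" => Cfsg.AlgInt ⧸ M
local notation "A₀" => MonoidAlgebra (Cfsg.AlgInt ⧸ M) G

/-- An element of the block killing all simple modules lies in the radical. -/
theorem mem_jacobson_of_kill (hM : Cfsg.IsPModular p M) {B : Set (Cfsg.IrrCharacter G)}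
    (hB : Cfsg.IsPBlock M B) {n : ℕ} (V : Fin n → SimpleMod.{u, u, 0} 𝕜 G (bElt hM B))
    (hall : ∀ S : SimpleMod.{u, u, 0} 𝕜 G (bElt hM B), ∃ j,
      ∃ F : (V j).V →ₗ[A₀] S.V, F ≠ 0)
    {z : A₀} (hεz : bElt hM B * z = z) (hz : ∀ j, ∀ x : (V j).V, z • x = 0) :
    z ∈ Ring.jacobson A₀ := by
  rw [Ring.jacobson_eq_sInf_isMaximal]
  refine Submodule.mem_sInf.2 fun m (hm : Ideal.IsMaximal m) => ?_
  have : IsSimpleModule A₀ (A₀ ⧸ m) := isSimpleModule_iff_isCoatom.2 hm.out
  have : FiniteDimensional 𝕜 A₀ := Module.Finite.of_basis (MonoidAlgebra.basis G 𝕜)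
  have : FiniteDimensional 𝕜 (A₀ ⧸ m) := inferInstanceAs (FiniteDimensional 𝕜 (A₀ ⧸ m))
  by_cases hfix : ∀ q : A₀ ⧸ m, bElt hM B • q = q
  · obtain ⟨j, F, hF⟩ := hall ⟨_, hfix⟩
    obtain ⟨y, hy⟩ := ((LinearMap.bijective_or_eq_zero F).resolve_right hF).2
      (Submodule.Quotient.mk 1)
    have e : z • (Submodule.Quotient.mk 1 : A₀ ⧸ m) = 0 := by
      rw [← hy, ← map_smul, hz, map_zero]
    rw [← Submodule.Quotient.mk_smul, smul_eq_mul, mul_one] at e
    exact (Submodule.Quotient.mk_eq_zero m).1 e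
  · -- the idempotent acts as zero
    let W : Submodule A₀ (A₀ ⧸ m) :=
      { carrier := {q | bElt hM B • q = q}
        add_mem' := fun {a b} (ha : bElt hM B • a = a) (hb : bElt hM B • b = b) => by
          show bElt hM B • (a + b) = a + b
          rw [smul_add, ha, hb]
        zero_mem' := smul_zero _
        smul_mem' := fun r q (hq : bElt hM B • q = q) => by
          show bElt hM B • r • q = r • q
          rw [← mul_smul, bElt_central hM, mul_smul, hq] }
    have hW : W = ⊥ := (IsSimpleOrder.eq_bot_or_eq_top W).resolve_right fun h =>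
      hfix fun q => (show q ∈ W by rw [h]; trivial)
    have hmem : bElt hM B • (Submodule.Quotient.mk z : A₀ ⧸ m) ∈ W := by
      show bElt hM B • bElt hM B • _ = bElt hM B • _
      rw [← mul_smul, bElt_idem hM hB]
    rw [hW, Submodule.mem_bot, ← Submodule.Quotient.mk_smul, smul_eq_mul, hεz] at hmem
    exact (Submodule.Quotient.mk_eq_zero m).1 hmem

/-- Idempotents of rank one on one simple module and zero on the others. -/
theorem exists_simple_idem (hM : Cfsg.IsPModular p M) {B : Set (Cfsg.IrrCharacter G)}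
    (hB : Cfsg.IsPBlock M B) {n : ℕ} (V : Fin n → SimpleMod.{u, u, 0} 𝕜 G (bElt hM B))
    (hne : ∀ j l, j ≠ l → ∀ F : (V j).V →ₗ[A₀] (V l).V, F = 0)
    (hall : ∀ S : SimpleMod.{u, u, 0} 𝕜 G (bElt hM B), ∃ j,
      ∃ F : (V j).V →ₗ[A₀] S.V, F ≠ 0) (j : Fin n) :
    ∃ e : A₀, e * e = e ∧ bElt hM B * e = e ∧
      ∀ i, actRank 𝕜 e (V i).V = if i = j then 1 else 0 := by
  classical
  have := BlockThms.OrderP.isAlgClosed_residue (M := M)
  have : FiniteDimensional 𝕜 A₀ := Module.Finite.of_basis (MonoidAlgebra.basis G 𝕜)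
  have : IsArtinianRing A₀ := IsArtinianRing.of_finite 𝕜 _
  have : Nontrivial (V j).V := IsSimpleModule.nontrivial A₀ _
  obtain ⟨v₀, hv₀⟩ := exists_ne (0 : (V j).V)
  obtain ⟨l, hl⟩ := Module.Projective.exists_dual_ne_zero 𝕜 hv₀
  obtain ⟨π, hπ⟩ : ∃ π : Module.End 𝕜 (V j).V, π = ((l v₀)⁻¹ • l).smulRight v₀ := ⟨_, rfl⟩
  have hπ₀ : ∀ x, π x = ((l v₀)⁻¹ * l x) • v₀ := fun x => by rw [hπ]; rfl
  have hπv : π v₀ = v₀ := by rw [hπ₀, inv_mul_cancel₀ hl, one_smul]
  obtain ⟨a₀, ha₀⟩ := exists_smul_eq (k := 𝕜) (R := A₀) (fun i => (V i).V) hne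
    (Function.update 0 j π)
  obtain ⟨a, ha⟩ : ∃ a, a = bElt hM B * a₀ := ⟨_, rfl⟩
  have hεa : bElt hM B * a = a := by rw [ha, ← mul_assoc, bElt_idem hM hB]
  have haj : ∀ x : (V j).V, a • x = π x := fun x => by
    rw [ha, mul_smul, ha₀, (V j).fix, Function.update_self]
  have hai : ∀ i, i ≠ j → ∀ x : (V i).V, a • x = 0 := fun i hi x => by
    rw [ha, mul_smul, ha₀, (V i).fix, Function.update_of_ne hi]
    rfl
  have hkill : ∀ i, ∀ x : (V i).V, (a - a * a) • x = 0 := by
    intro i x
    by_cases hi : i = j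
    · subst hi
      rw [sub_smul, mul_smul, haj, haj, hπ₀ x, map_smul, hπv, sub_self]
    · rw [sub_smul, mul_smul, hai i hi, show a • (0 : (V i).V) = 0 from smul_zero a, sub_zero]
  obtain ⟨N, hN⟩ := IsSemiprimaryRing.isNilpotent (R := A₀)
  have hnil : (a - a * a) ^ (N + 1) = 0 := by
    have h := Ideal.pow_mem_pow (mem_jacobson_of_kill hM hB V hall
      (by rw [mul_sub, ← mul_assoc, hεa]) hkill) N
    rw [hN] at h
    rw [pow_succ, show (a - a * a) ^ N = 0 by simpa using h, zero_mul]
  obtain ⟨e, hee, -, hea, -⟩ := exists_idem_of_nilpotent (k := 𝕜) (Nat.succ_pos N) hnil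
  obtain ⟨r, hr⟩ := Ideal.mem_span_singleton'.1 hea
  have hact : ∀ i, ∀ x : (V i).V, (bElt hM B * e) • x = a • x := fun i x => by
    rw [mul_smul, (V i).fix, show e = a + r * (a - a * a) by rw [hr]; abel, add_smul, mul_smul,
      hkill, show r • (0 : (V i).V) = 0 from smul_zero r, add_zero]
  refine ⟨bElt hM B * e, ?_, by rw [← mul_assoc, bElt_idem hM hB], fun i => ?_⟩
  · rw [mul_assoc, ← mul_assoc e, ← bElt_central hM, mul_assoc, hee, ← mul_assoc, bElt_idem hM hB]
  by_cases hi : i = j
  · subst hi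
    rw [if_pos rfl, actRank]
    have hr1 : LinearMap.range (Algebra.lsmul 𝕜 𝕜 (V i).V (bElt hM B * e) :
        Module.End 𝕜 (V i).V) = Submodule.span 𝕜 {v₀} := by
      refine le_antisymm ?_ ?_
      · rintro _ ⟨x, rfl⟩
        show (bElt hM B * e) • x ∈ _
        rw [hact, haj, hπ₀]
        exact Submodule.smul_mem _ _ (Submodule.mem_span_singleton_self v₀)
      · rw [Submodule.span_le, Set.singleton_subset_iff]
        exact ⟨v₀, (hact _ _).trans ((haj _).trans hπv)⟩
    rw [hr1, finrank_span_singleton hv₀]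
  · rw [if_neg hi, actRank]
    have hr0 : LinearMap.range (Algebra.lsmul 𝕜 𝕜 (V i).V (bElt hM B * e) :
        Module.End 𝕜 (V i).V) = ⊥ := by
      rw [LinearMap.range_eq_bot]
      refine LinearMap.ext fun x => ?_
      exact (hact _ _).trans (hai i hi _)
    rw [hr0, finrank_bot]

/-- The rank of an idempotent on a module of the block, through its simple modules. -/
theorem actRank_eq_sum (hM : Cfsg.IsPModular p M) {B : Set (Cfsg.IrrCharacter G)}
    {n : ℕ} (V : Fin n → SimpleMod.{u, u, 0} 𝕜 G (bElt hM B))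
    (hall : ∀ S : SimpleMod.{u, u, 0} 𝕜 G (bElt hM B), ∃ j,
      ∃ F : (V j).V →ₗ[A₀] S.V, F ≠ 0)
    (f : Fin n → A₀) (hf : ∀ j, f j * f j = f j)
    (hrk : ∀ i j, actRank 𝕜 (f j) (V i).V = if i = j then 1 else 0)
    {x : A₀} (hx : x * x = x) :
    ∀ (d : ℕ) (S : Type u) [AddCommGroup S] [Module 𝕜 S] [Module A₀ S] [IsScalarTower 𝕜 A₀ S]
      [FiniteDimensional 𝕜 S], Module.finrank 𝕜 S ≤ d → (∀ v : S, bElt hM B • v = v) →
      actRank 𝕜 x S = ∑ j, actRank 𝕜 x (V j).V * actRank 𝕜 (f j) S := by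
  intro d
  induction d with
  | zero =>
    intro S _ _ _ _ _ hd _
    have : Subsingleton S := Module.finrank_zero_iff.1 (Nat.le_zero.1 hd)
    simp [actRank_of_subsingleton]
  | succ d ih =>
    intro S _ _ _ _ _ hd hε
    rcases subsingleton_or_nontrivial S with hs | hs
    · simp [actRank_of_subsingleton]
    by_cases hsimp : IsSimpleModule A₀ S
    · obtain ⟨j, F, hF⟩ := hall ⟨S, hε⟩
      have e := LinearEquiv.ofBijective F ((LinearMap.bijective_or_eq_zero F).resolve_right hF)
      simp only [← actRank_congr 𝕜 e, hrk, mul_ite, mul_one, mul_zero, Finset.sum_ite_eq,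
        Finset.mem_univ, if_true]
    obtain ⟨W, hW0, hW1⟩ : ∃ W : Submodule A₀ S, W ≠ ⊥ ∧ W ≠ ⊤ := by
      by_contra h
      push Not at h
      exact hsimp ((isSimpleModule_iff _ _).2 ⟨fun W => or_iff_not_imp_left.2 (h W)⟩)
    have h1 : Module.finrank 𝕜 (W.restrictScalars 𝕜) < Module.finrank 𝕜 S :=
      Submodule.finrank_lt fun h => hW1 (by rwa [Submodule.restrictScalars_eq_top_iff] at h)
    have h2 : 0 < Module.finrank 𝕜 (W.restrictScalars 𝕜) := by
      rw [Nat.pos_iff_ne_zero, Ne, Submodule.finrank_eq_zero]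
      exact fun h => hW0 (by rwa [Submodule.restrictScalars_eq_bot_iff] at h)
    have h3 := Submodule.finrank_quotient_add_finrank (W.restrictScalars 𝕜)
    have hQfd : FiniteDimensional 𝕜 (S ⧸ W) :=
      Module.Finite.of_surjective ((Submodule.mkQ W).restrictScalars 𝕜)
        (Submodule.mkQ_surjective W)
    have hQd : Module.finrank 𝕜 (S ⧸ W) = Module.finrank 𝕜 (S ⧸ W.restrictScalars 𝕜) :=
      ((Submodule.Quotient.restrictScalarsEquiv 𝕜 W).finrank_eq).symm
    have hWfd : FiniteDimensional 𝕜 W :=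
      inferInstanceAs (FiniteDimensional 𝕜 (W.restrictScalars 𝕜))
    have hWd : Module.finrank 𝕜 W = Module.finrank 𝕜 (W.restrictScalars 𝕜) := rfl
    rw [actRank_submodule 𝕜 hx W, ih W (by omega) fun v => Subtype.ext (hε v),
      ih (S ⧸ W) (by omega) fun y => by
        obtain ⟨v, rfl⟩ := Submodule.mkQ_surjective W y
        rw [← map_smul, hε], ← Finset.sum_add_distrib]
    exact Finset.sum_congr rfl fun j _ => by rw [actRank_submodule 𝕜 (hf j) W, mul_add]

/-- `m` lists the values of the characters at an idempotent of the block. -/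
def IsMult (hM : Cfsg.IsPModular p M) (B : Set (Cfsg.IrrCharacter G))
    (m : Cfsg.IrrCharacter G → ℕ) : Prop :=
  ∃ f : G → ℂ, (∀ g, Cfsg.MemLocalRing M (f g)) ∧ conv f f = f ∧
    bElt hM B * res hM f = res hM f ∧
    (∀ χ : Cfsg.IrrCharacter G, evC (χ : G → ℂ) f = (m χ : ℂ)) ∧ ∀ χ, χ ∉ B → m χ = 0

/-- The integral combinations of these lists. -/
def projSpan (hM : Cfsg.IsPModular p M) (B : Set (Cfsg.IrrCharacter G)) :
    AddSubgroup (Cfsg.IrrCharacter G → ℤ) :=
  AddSubgroup.closure {v | ∃ m, IsMult hM B m ∧ v = fun χ => (m χ : ℤ)}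

open scoped Classical in
/-- With one degree, if the constant list is such a combination, there is one simple module and an
idempotent seen once by each character of the block. -/
theorem exists_unit_idem [Fact p.Prime] (hM : Cfsg.IsPModular p M)
    {B : Set (Cfsg.IrrCharacter G)} (hB : Cfsg.IsPBlock M B) {d : ℕ}
    (hdeg : ∀ χ ∈ B, Cfsg.charDegree ((χ : Cfsg.IrrCharacter G) : G → ℂ) = d)
    (hspan : (fun χ : Cfsg.IrrCharacter G => if χ ∈ B then (1 : ℤ) else 0) ∈ projSpan hM B) :
    Cfsg.blockRank p B = 1 ∧ ∃ f : G → ℂ, (∀ g, Cfsg.MemLocalRing M (f g)) ∧ conv f f = f ∧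
      bElt hM B * res hM f = res hM f ∧
      (∀ χ : Cfsg.IrrCharacter G, evC (χ : G → ℂ) f = if χ ∈ B then 1 else 0) ∧
      ∀ z : A₀, (∀ y, z * y = y * z) → bElt hM B * z = z → z * res hM f = 0 → z = 0 := by
  have := charP_residueField hM
  have := BlockThms.OrderP.isAlgClosed_residue (M := M)
  have : FiniteDimensional 𝕜 A₀ := Module.Finite.of_basis (MonoidAlgebra.basis G 𝕜)
  obtain ⟨n, V, hne, hall⟩ := exists_simples hM (bElt hM B)
  choose e hee hεe hrk using exists_simple_idem hM hB V hne hall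
  choose f a hfR hfid hres hfa hfoff using fun j =>
    exists_idem_lift_block hM hB (hee j) (hεe j)
  have hma : ∀ j, IsMult hM B (a j) := fun j =>
    ⟨f j, hfR j, hfid j, by rw [hres, hεe], hfa j, hfoff j⟩
  -- multiplicities and ranks
  have hpair : ∀ (F H : G → ℂ) (m m' : Cfsg.IrrCharacter G → ℕ),
      (∀ g, Cfsg.MemLocalRing M (F g)) → conv F F = F → (∀ g, Cfsg.MemLocalRing M (H g)) →
      conv H H = H → (∀ χ : Cfsg.IrrCharacter G, evC (χ : G → ℂ) F = (m χ : ℂ)) →
      (∀ χ : Cfsg.IrrCharacter G, evC (χ : G → ℂ) H = (m' χ : ℂ)) →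
      ∑ χ, m χ * m' χ = Module.finrank 𝕜 (LinearMap.range (sand (res hM F) (res hM H))) := by
    intro F H m m' hFR hF hHR hH hm hm'
    have h := finrank_sand hM hFR hF hHR hH
    simp only [hm, hm'] at h
    exact_mod_cast h.symm
  have hmult : ∀ (F : G → ℂ) (m : Cfsg.IrrCharacter G → ℕ), (∀ g, Cfsg.MemLocalRing M (F g)) →
      conv F F = F → bElt hM B * res hM F = res hM F →
      (∀ χ : Cfsg.IrrCharacter G, evC (χ : G → ℂ) F = (m χ : ℂ)) → (∀ χ, χ ∉ B → m χ = 0) →
      ∀ χ, m χ = ∑ j, actRank 𝕜 (res hM F) (V j).V * a j χ := by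
    intro F m hFR hF hFε hFm hFoff
    set x := res hM F with hx
    have hxx : x * x = x := by rw [hx, ← res_conv hM hFR hFR, hF]
    set r : Fin n → ℕ := fun j => actRank 𝕜 x (V j).V with hr
    have horth : ∀ m', IsMult hM B m' →
        ∑ χ, m χ * m' χ = ∑ χ, (∑ j, r j * a j χ) * m' χ := by
      intro m' hm'
      obtain ⟨H, hHR, hH, hHε, hHm, -⟩ := hm'
      set y := res hM H with hy
      let W : Submodule A₀ A₀ := LinearMap.range (LinearMap.toSpanSingleton A₀ A₀ y)
      have hWε : ∀ w : W, bElt hM B • w = w := by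
        rintro ⟨_, z, rfl⟩
        refine Subtype.ext ?_
        show bElt hM B * (z * y) = z * y
        rw [← mul_assoc, bElt_central hM, mul_assoc, hHε]
      have hW : ∀ z : A₀, actRank 𝕜 z W = Module.finrank 𝕜 (LinearMap.range (sand z y)) := by
        intro z
        have h : (LinearMap.range (Algebra.lsmul 𝕜 𝕜 W z : Module.End 𝕜 W)).map
            (W.subtype.restrictScalars 𝕜) = LinearMap.range (sand z y) := by
          ext t
          constructor
          · rintro ⟨_, ⟨⟨_, b, rfl⟩, rfl⟩, rfl⟩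
            exact ⟨b, rfl⟩
          · rintro ⟨b, rfl⟩
            exact ⟨z • (⟨b * y, b, rfl⟩ : W), ⟨_, rfl⟩, rfl⟩
        rw [actRank, ← h]
        exact (Submodule.equivMapOfInjective _
          (Subtype.val_injective : Function.Injective (W.subtype.restrictScalars 𝕜)) _).finrank_eq
      have hWfd : FiniteDimensional 𝕜 W :=
        inferInstanceAs (FiniteDimensional 𝕜 (W.restrictScalars 𝕜))
      have h := actRank_eq_sum hM V hall e hee (fun i j => hrk j i) hxx _ W le_rfl hWε
      rw [hW, hx, hy, ← hpair F H m m' hFR hF hHR hH hFm hHm] at h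
      rw [h, Finset.sum_congr rfl fun χ _ => Finset.sum_mul _ _ _, Finset.sum_comm]
      refine Finset.sum_congr rfl fun j _ => ?_
      rw [hW, hy, ← hres j, ← hpair (f j) H (a j) m' (hfR j) (hfid j) hHR hH (hfa j) hHm,
        Finset.mul_sum]
      exact Finset.sum_congr rfl fun χ _ => by rw [mul_assoc]
    set w : Cfsg.IrrCharacter G → ℤ := fun χ => (m χ : ℤ) - ((∑ j, r j * a j χ : ℕ) : ℤ) with hw
    have hw0 : ∀ m', IsMult hM B m' → ∑ χ, w χ * (m' χ : ℤ) = 0 := by
      intro m' hm'
      simp only [hw, sub_mul, Finset.sum_sub_distrib, sub_eq_zero]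
      exact_mod_cast horth m' hm'
    have hww : ∑ χ, w χ * w χ = 0 := by
      have e1 : ∑ χ, w χ * w χ = ∑ χ, w χ * (m χ : ℤ) -
          ∑ j, (r j : ℤ) * ∑ χ, w χ * (a j χ : ℤ) := by
        conv_rhs => arg 2; simp only [Finset.mul_sum]; rw [Finset.sum_comm]
        rw [← Finset.sum_sub_distrib]
        refine Finset.sum_congr rfl fun χ _ => ?_
        conv_lhs => arg 2; simp only [hw]
        rw [mul_sub]
        congr 1
        push_cast
        rw [Finset.mul_sum]
        exact Finset.sum_congr rfl fun j _ => by ring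
      rw [e1, hw0 m ⟨F, hFR, hF, hFε, hFm, hFoff⟩, zero_sub, neg_eq_zero]
      exact Finset.sum_eq_zero fun j _ => by rw [hw0 _ (hma j), mul_zero]
    intro χ
    have h := (Finset.sum_eq_zero_iff_of_nonneg fun χ _ => mul_self_nonneg (w χ)).1 hww χ
      (Finset.mem_univ χ)
    have h' := mul_self_eq_zero.1 h
    simp only [hw, sub_eq_zero] at h'
    exact_mod_cast h'
  have hrel : ∀ w : Fin n → ℤ, (∀ χ, ∑ j, w j * (a j χ : ℤ) = 0) → ∀ T, (p : ℤ) ∣ w T := by
    intro w hw T
    set F : G → ℂ := fun g => ∑ j, (w j : ℂ) * f j g with hF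
    set φ : G → ℂ := fun g =>
      ((Function.surjInv Ideal.Quotient.mk_surjective (tr M (V T).V g) : Cfsg.AlgInt) : ℂ) with hφ
    have hφc : Cfsg.IsClassFunction G φ := fun g c => by simp only [hφ, tr_conj]
    have hev : ∀ χ : Cfsg.IrrCharacter G, ∑ g, F g * (χ : G → ℂ) g = 0 := fun χ => by
      calc ∑ g, F g * (χ : G → ℂ) g = ∑ j, (w j : ℂ) * evC (χ : G → ℂ) (f j) := by
            simp only [hF, evC, Finset.sum_mul, Finset.mul_sum]
            rw [Finset.sum_comm]
            exact Finset.sum_congr rfl fun j _ => Finset.sum_congr rfl fun g _ => by ring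
        _ = ((∑ j, w j * (a j χ : ℤ) : ℤ) : ℂ) := by
            push_cast
            exact Finset.sum_congr rfl fun j _ => by rw [hfa]
        _ = 0 := by rw [hw χ, Int.cast_zero]
    have h0 : ∑ g, F g * φ g = 0 := by
      rw [Char.classFun_expansion hφc]
      simp only [Finset.sum_apply, Pi.smul_apply, smul_eq_mul, Finset.mul_sum]
      rw [Finset.sum_comm]
      refine Finset.sum_eq_zero fun χ _ => ?_
      simp only [mul_left_comm (F _), ← Finset.mul_sum, hev, mul_zero]
    have hwR : ∀ j, Cfsg.MemLocalRing M (w j : ℂ) := fun j =>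
      memLocalRing_of_isIntegral hM (Blocks.isIntegral_intCast _)
    have hFR : ∀ g, Cfsg.MemLocalRing M (F g) := fun g =>
      (localRing hM).sum_mem fun j _ => (localRing hM).mul_mem (hwR j) (hfR j g)
    have hint : ∀ j, resFun hM (w j : ℂ) = (w j : 𝕜) := fun j => by
      have h := resFun_coe hM (w j : Cfsg.AlgInt)
      rw [map_intCast] at h
      simpa using h
    have h1 : resFun hM (∑ g, F g * φ g) = (w T : 𝕜) := by
      calc resFun hM (∑ g, F g * φ g) = ∑ g, resFun hM (F g) * tr M (V T).V g := by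
            rw [BlockThms.OrderP.resFun_sum hM _ fun g _ =>
              (localRing hM).mul_mem (hFR g) (memLocalRing_coe hM _)]
            refine Finset.sum_congr rfl fun g _ => ?_
            rw [resFun_mul hM (hFR g) (memLocalRing_coe hM _), resFun_coe,
              Function.surjInv_eq Ideal.Quotient.mk_surjective]
        _ = ∑ j, (w j : 𝕜) * ∑ g, (e j).coeff g * tr M (V T).V g := by
            simp only [Finset.mul_sum]
            rw [Finset.sum_comm]
            refine Finset.sum_congr rfl fun g _ => ?_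
            rw [hF, BlockThms.OrderP.resFun_sum hM _ fun j _ =>
              (localRing hM).mul_mem (hwR j) (hfR j g), Finset.sum_mul]
            refine Finset.sum_congr rfl fun j _ => ?_
            rw [resFun_mul hM (hwR j) (hfR j g), hint, ← hres j, coeff_res, mul_assoc]
        _ = _ := by
            simp only [← trace_lsmul_eq, trace_lsmul_idem 𝕜 (hee _), hrk, Nat.cast_ite,
              Nat.cast_one, Nat.cast_zero, mul_ite, mul_one, mul_zero, Finset.sum_ite_eq,
              Finset.mem_univ, if_true]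
    rw [h0, show resFun hM (0 : ℂ) = 0 by simpa using resFun_coe hM (0 : Cfsg.AlgInt)] at h1
    rw [← CharP.intCast_eq_zero_iff 𝕜 p]
    exact h1.symm
  have hind : ∀ w : Fin n → ℤ, (∀ χ, ∑ j, w j * (a j χ : ℤ) = 0) → ∀ T, w T = 0 := by
    have key : ∀ (k : ℕ) (w : Fin n → ℤ), (∀ χ, ∑ j, w j * (a j χ : ℤ) = 0) →
        ∀ T, (p : ℤ) ^ k ∣ w T := by
      intro k
      induction k with
      | zero => intro w _ T; simp
      | succ k ih =>
        intro w hw T
        choose w' hw' using hrel w hw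
        have h : ∀ χ, ∑ j, w' j * (a j χ : ℤ) = 0 := fun χ => by
          have := hw χ
          simp only [hw', mul_assoc, ← Finset.mul_sum] at this
          exact (mul_eq_zero.1 this).resolve_left (Nat.cast_ne_zero.2 (Fact.out : p.Prime).ne_zero)
        rw [hw' T, pow_succ']
        exact mul_dvd_mul_left _ (ih w' h T)
    intro w hw T
    by_contra hne
    have h := Int.natAbs_dvd_natAbs.2 (key (w T).natAbs w hw T)
    rw [Int.natAbs_pow, Int.natAbs_natCast] at h
    exact absurd (Nat.le_of_dvd (Int.natAbs_pos.2 hne) h)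
      (not_le.2 (Nat.lt_pow_self (Fact.out : p.Prime).one_lt))
  -- the constant list
  obtain ⟨c, hc⟩ : ∃ c : Fin n → ℤ, ∀ χ,
      (if χ ∈ B then (1 : ℤ) else 0) = ∑ j, c j * (a j χ : ℤ) := by
    have key : ∀ v ∈ projSpan hM B, ∃ c : Fin n → ℤ, ∀ χ, v χ = ∑ j, c j * (a j χ : ℤ) := by
      intro v hv
      induction hv using AddSubgroup.closure_induction with
      | mem v hv =>
        obtain ⟨m, ⟨F, h1, h2, h3, h4, h5⟩, rfl⟩ := hv
        exact ⟨fun j => (actRank 𝕜 (res hM F) (V j).V : ℤ),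
          fun χ => by show (m χ : ℤ) = _; rw [hmult F m h1 h2 h3 h4 h5 χ]; push_cast; rfl⟩
      | zero => exact ⟨0, fun χ => by simp⟩
      | add u v _ _ hu hv =>
        obtain ⟨c, hc⟩ := hu
        obtain ⟨c', hc'⟩ := hv
        exact ⟨c + c', fun χ => by simp [hc χ, hc' χ, add_mul, Finset.sum_add_distrib]⟩
      | neg u _ hu =>
        obtain ⟨c, hc⟩ := hu
        exact ⟨-c, fun χ => by simp [hc χ]⟩
    exact key _ hspan
  -- the whole block idempotent
  have haR := memLocalRing_blockCoeff hM hB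
  have hεev : ∀ χ : Cfsg.IrrCharacter G,
      evC (χ : G → ℂ) (Cfsg.blockCoeff B) = ((if χ ∈ B then d else 0 : ℕ) : ℂ) := fun χ => by
    have h1 : evC (χ : G → ℂ) (Cfsg.blockCoeff B) =
        omega (χ : G → ℂ) (Cfsg.blockCoeff B) * (χ : G → ℂ) 1 := by
      rw [omega, div_mul_cancel₀ _ (Char.IsIrr.one_ne_zero χ.2)]
      rfl
    rw [h1, omega_blockCoeff]
    by_cases hχ : χ ∈ B
    · rw [if_pos hχ, if_pos hχ, one_mul, (CharArith.irr_degree_spec χ).1, hdeg χ hχ]
    · rw [if_neg hχ, if_neg hχ, zero_mul, Nat.cast_zero]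
  have hdim : ∀ j, (Module.finrank 𝕜 (V j).V : ℤ) = d * c j := by
    have hfull := hmult (Cfsg.blockCoeff B) _ haR (blockCoeff_conv B) (bElt_idem hM hB) hεev
      fun χ hχ => if_neg hχ
    have hid : ∀ j, actRank 𝕜 (res hM (Cfsg.blockCoeff B)) (V j).V =
        Module.finrank 𝕜 (V j).V := fun j => by
      rw [actRank, show (Algebra.lsmul 𝕜 𝕜 (V j).V (res hM (Cfsg.blockCoeff B)) :
        Module.End 𝕜 (V j).V) = LinearMap.id from LinearMap.ext (V j).fix, LinearMap.range_id,
        finrank_top]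
    simp only [hid] at hfull
    intro T
    have := hind (fun j => (d : ℤ) * c j - (Module.finrank 𝕜 (V j).V : ℤ)) (fun χ => by
      simp only [sub_mul, Finset.sum_sub_distrib, sub_eq_zero, mul_assoc, ← Finset.mul_sum, ← hc χ]
      have h2 := hfull χ
      rw [mul_ite, mul_one, mul_zero]
      exact_mod_cast h2) T
    omega
  have hcpos : ∀ j, 0 < c j := fun j => by
    have : Nontrivial (V j).V := IsSimpleModule.nontrivial A₀ _
    have h1 : (0 : ℤ) < Module.finrank 𝕜 (V j).V := by exact_mod_cast Module.finrank_pos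
    rw [hdim j] at h1
    exact pos_of_mul_pos_right h1 (Int.natCast_nonneg d)
  -- each character meets one projective, once
  have hone : ∀ χ ∈ B, ∑ j, c j * (a j χ : ℤ) = 1 := fun χ hχ => by rw [← hc χ, if_pos hχ]
  have hdisj : ∀ i j, i ≠ j → ∀ χ, a i χ * a j χ = 0 := by
    intro i j hij χ
    by_contra h
    obtain ⟨hi, hj⟩ := Nat.mul_ne_zero_iff.1 h
    have hχ : χ ∈ B := by
      by_contra hχ
      exact hi (hfoff i χ hχ)
    have h2 : ∑ l ∈ {i, j}, c l * (a l χ : ℤ) ≤ 1 := by
      rw [← hone χ hχ]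
      exact Finset.sum_le_sum_of_subset_of_nonneg (Finset.subset_univ _) fun l _ _ =>
        mul_nonneg (hcpos l).le (Int.natCast_nonneg _)
    rw [Finset.sum_pair hij] at h2
    have h3 : 1 ≤ c i * (a i χ : ℤ) := Int.add_one_le_iff.2 (mul_pos (hcpos i) (by omega))
    have h4 : 1 ≤ c j * (a j χ : ℤ) := Int.add_one_le_iff.2 (mul_pos (hcpos j) (by omega))
    omega
  have horth : ∀ i j, i ≠ j → ∀ z, e i * z * e j = 0 := by
    intro i j hij z
    have h := hpair (f i) (f j) (a i) (a j) (hfR i) (hfid i) (hfR j) (hfid j) (hfa i) (hfa j)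
    rw [hres, hres, Finset.sum_eq_zero fun χ _ => hdisj i j hij χ] at h
    have h' := LinearMap.congr_fun (LinearMap.range_eq_bot.1 (Submodule.finrank_eq_zero.1 h.symm)) z
    rw [sand_apply] at h'
    rw [mul_assoc]
    exact h'
  -- the two-sided ideals of the idempotents
  let R : Fin n → Submodule 𝕜 A₀ := fun j =>
    Submodule.span 𝕜 (Set.range fun q : A₀ × A₀ => q.1 * e j * q.2)
  have hgenR : ∀ j (b b' : A₀), b * e j * b' ∈ R j := fun j b b' =>
    Submodule.subset_span ⟨(b, b'), rfl⟩
  have hRl : ∀ j (b : A₀), ∀ r ∈ R j, b * r ∈ R j := by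
    intro j b r hr
    refine Submodule.span_induction ?_ ?_ ?_ ?_ hr
    · rintro _ ⟨q, rfl⟩
      rw [← mul_assoc, ← mul_assoc]
      exact hgenR j _ _
    · rw [mul_zero]; exact zero_mem _
    · intro r r' _ _ h h'; rw [mul_add]; exact add_mem h h'
    · intro s r _ h; rw [mul_smul_comm]; exact (R j).smul_mem s h
  have hRε : ∀ j, ∀ r ∈ R j, bElt hM B * r = r := by
    intro j r hr
    refine Submodule.span_induction ?_ ?_ ?_ ?_ hr
    · rintro _ ⟨q, rfl⟩
      rw [← mul_assoc, ← mul_assoc, bElt_central hM, mul_assoc q.1, hεe]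
    · exact mul_zero _
    · intro r r' _ _ h h'; rw [mul_add, h, h']
    · intro s r _ h; rw [mul_smul_comm, h]
  have hRR : ∀ i j, i ≠ j → ∀ r ∈ R i, ∀ r' ∈ R j, r * r' = 0 := by
    intro i j hij r hr r' hr'
    refine Submodule.span_induction ?_ ?_ ?_ ?_ hr
    · rintro _ ⟨q, rfl⟩
      refine Submodule.span_induction ?_ ?_ ?_ ?_ hr'
      · rintro _ ⟨q', rfl⟩
        calc q.1 * e i * q.2 * (q'.1 * e j * q'.2)
            = q.1 * (e i * (q.2 * q'.1) * e j) * q'.2 := by simp only [mul_assoc]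
          _ = 0 := by rw [horth i j hij, mul_zero, zero_mul]
      · exact mul_zero _
      · intro r r' _ _ h h'; rw [mul_add, h, h', add_zero]
      · intro s r _ h; rw [mul_smul_comm, h, smul_zero]
    · exact zero_mul _
    · intro r r' _ _ h h'; rw [add_mul, h, h', add_zero]
    · intro s r _ h; rw [smul_mul_assoc, h, smul_zero]
  let I : Ideal A₀ :=
    { carrier := (⨆ j, R j : Submodule 𝕜 A₀)
      add_mem' := fun hx hy => add_mem hx hy
      zero_mem' := zero_mem _
      smul_mem' := fun b x hx => by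
        induction hx using Submodule.iSup_induction' with
        | mem j x hx => exact Submodule.mem_iSup_of_mem j (hRl j b x hx)
        | zero =>
          show b • (0 : A₀) ∈ ((⨆ j, R j : Submodule 𝕜 A₀) : Set A₀)
          rw [smul_zero]; exact zero_mem _
        | add x y _ _ hx hy =>
          show b • (x + y) ∈ ((⨆ j, R j : Submodule 𝕜 A₀) : Set A₀)
          rw [smul_add]; exact add_mem hx hy }
  have hεI : bElt hM B ∈ I := by
    by_contra hI
    let I' : Ideal A₀ := I ⊔ Ideal.span {1 - bElt hM B}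
    have hI' : I' ≠ ⊤ := by
      intro htop
      obtain ⟨x, hx, y, hy, hxy⟩ := Submodule.mem_sup.1 ((Ideal.eq_top_iff_one I').1 htop)
      obtain ⟨b, rfl⟩ := Ideal.mem_span_singleton'.1 hy
      refine hI ?_
      have h1 := congrArg (bElt hM B * ·) hxy
      simp only [mul_add, mul_one, ← mul_assoc, bElt_central hM b] at h1
      rw [mul_assoc b, mul_sub, mul_one, bElt_idem hM hB, sub_self, mul_zero, add_zero] at h1
      rw [← h1]
      exact I.mul_mem_left _ hx
    obtain ⟨m, hm, hIm⟩ := Ideal.exists_le_maximal I' hI'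
    have : IsSimpleModule A₀ (A₀ ⧸ m) := isSimpleModule_iff_isCoatom.2 hm.out
    have : FiniteDimensional 𝕜 (A₀ ⧸ m) := inferInstanceAs (FiniteDimensional 𝕜 (A₀ ⧸ m))
    have hfix : ∀ q : A₀ ⧸ m, bElt hM B • q = q := by
      intro q
      obtain ⟨z, rfl⟩ := Submodule.mkQ_surjective m q
      rw [Submodule.mkQ_apply, ← Submodule.Quotient.mk_smul, smul_eq_mul, Submodule.Quotient.eq]
      have e1 : bElt hM B * z - z = -(z * (1 - bElt hM B)) := by
        rw [mul_sub, mul_one, bElt_central hM]; abel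
      rw [e1]
      exact neg_mem (hIm (Submodule.mem_sup_right (Ideal.mul_mem_left _ _ (Ideal.subset_span rfl))))
    obtain ⟨j, F, hF⟩ := hall ⟨_, hfix⟩
    have hb := (LinearMap.bijective_or_eq_zero F).resolve_right hF
    have h1 := hrk j j
    rw [if_pos rfl, actRank] at h1
    have h2 : LinearMap.range (Algebra.lsmul 𝕜 𝕜 (V j).V (e j) : Module.End 𝕜 (V j).V) = ⊥ := by
      rw [LinearMap.range_eq_bot]
      refine LinearMap.ext fun v => hb.1 ?_
      show F (e j • v) = F 0
      rw [map_smul, map_zero]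
      obtain ⟨z, hz⟩ := Submodule.mkQ_surjective m (F v)
      rw [← hz, Submodule.mkQ_apply, ← Submodule.Quotient.mk_smul, smul_eq_mul,
        Submodule.Quotient.mk_eq_zero]
      refine hIm (Submodule.mem_sup_left ?_)
      have h3 := hgenR j 1 z
      rw [one_mul] at h3
      exact Submodule.mem_iSup_of_mem (p := R) j h3
    rw [h2, finrank_bot] at h1
    exact absurd h1 zero_ne_one
  obtain ⟨r, hrmem, hrsum⟩ : ∃ r : Fin n → A₀, (∀ j, r j ∈ R j) ∧ ∑ j, r j = bElt hM B := by
    obtain ⟨μ, hμ⟩ := (Submodule.mem_iSup_iff_exists_finsupp R _).1 hεI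
    refine ⟨μ, hμ.1, ?_⟩
    rw [← hμ.2, Finsupp.sum_fintype _ _ fun _ => rfl]
  have hrc : ∀ j y, r j * y = y * r j := by
    intro j y
    have hL : r j * y = r j * y * r j := by
      calc r j * y = r j * (y * bElt hM B) := by
            rw [← bElt_central hM, ← mul_assoc, ← bElt_central hM (r j), hRε j _ (hrmem j)]
        _ = ∑ i, r j * y * r i := by rw [← mul_assoc, ← hrsum, Finset.mul_sum]
        _ = r j * y * r j := Finset.sum_eq_single j (fun i _ hij => by
            rw [mul_assoc]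
            exact hRR j i (Ne.symm hij) _ (hrmem j) _ (hRl i y _ (hrmem i))) (by simp)
    have hR : y * r j = r j * y * r j := by
      calc y * r j = bElt hM B * (y * r j) := (hRε j _ (hRl j y _ (hrmem j))).symm
        _ = ∑ i, r i * (y * r j) := by rw [← hrsum, Finset.sum_mul]
        _ = r j * (y * r j) := Finset.sum_eq_single j (fun i _ hij =>
            hRR i j hij _ (hrmem i) _ (hRl j y _ (hrmem j))) (by simp)
        _ = _ := (mul_assoc _ _ _).symm
    rw [hL, ← hR]
  have hrid : ∀ j, r j * r j = r j := fun j => by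
    conv_rhs => rw [← hRε j _ (hrmem j), bElt_central hM, ← hrsum, Finset.mul_sum]
    exact (Finset.sum_eq_single j (fun i _ hij =>
      hRR j i (Ne.symm hij) _ (hrmem j) _ (hrmem i)) (by simp)).symm
  have hre : ∀ j, r j * e j = e j := fun j => by
    conv_rhs => rw [← hεe j, ← hrsum, Finset.sum_mul]
    have h := hgenR j 1 1
    rw [one_mul, mul_one] at h
    rw [Finset.sum_eq_single j (fun i _ hij => hRR i j hij _ (hrmem i) _ h)
      (fun hn => absurd (Finset.mem_univ j) hn)]
  have he0 : ∀ j, e j ≠ 0 := fun j h => by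
    have h1 := hrk j j
    rw [if_pos rfl, h, actRank, map_zero, LinearMap.range_zero, finrank_bot] at h1
    exact zero_ne_one h1
  have hrε : ∀ j, r j = bElt hM B := fun j =>
    (Cyclic.eq_zero_or_eq_bElt hM hB (hrc j) (hrid j) (hRε j _ (hrmem j))).resolve_left fun h => by
      have := hre j
      rw [h, zero_mul] at this
      exact he0 j this.symm
  have hε0 : bElt hM B ≠ 0 := Cyclic.bElt_ne_zero hM hB
  obtain ⟨χ₀, hχ₀⟩ := IsPBlock.nonempty hM hB
  obtain rfl : n = 1 := by
    rcases n with _ | _ | n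
    · exact absurd (hone χ₀ hχ₀) (by simp)
    · rfl
    · exfalso
      have h := hRR 0 1 (by simp) _ (hrmem 0) _ (hrmem 1)
      rw [hrε, hrε, bElt_idem hM hB] at h
      exact hε0 h
  refine ⟨blockRank_eq_card hM hB V hne hall, f 0, hfR 0, hfid 0, by rw [hres, hεe], fun χ => ?_, ?_⟩
  · rw [hfa 0 χ]
    by_cases hχ : χ ∈ B
    · have h := hone χ hχ
      rw [Fin.sum_univ_one] at h
      have hc1 : (a 0 χ : ℤ) = 1 := Int.eq_one_of_mul_eq_one_left (Int.natCast_nonneg _) h
      rw [if_pos hχ, show a 0 χ = 1 by exact_mod_cast hc1, Nat.cast_one]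
    · rw [if_neg hχ, hfoff 0 χ hχ, Nat.cast_zero]
  · intro z hzc hεz hz
    rw [hres] at hz
    have hann : ∀ x ∈ R 0, z * x = 0 := by
      intro x hx
      refine Submodule.span_induction ?_ ?_ ?_ ?_ hx
      · rintro _ ⟨q, rfl⟩
        rw [← mul_assoc, ← mul_assoc, hzc, mul_assoc q.1, hz, mul_zero, zero_mul]
      · exact mul_zero _
      · intro r r' _ _ h h'; rw [mul_add, h, h', add_zero]
      · intro s r _ h; rw [mul_smul_comm, h, smul_zero]
    rw [← hεz, bElt_central hM, ← hrε 0]
    exact hann _ (hrmem 0)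

end Cfsg.Agent.BlockChar.EqualDegree
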